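import Cfsg.Agent.H813.OmegaCent
import Cfsg.Agent.StdG24.ExFin
import Cfsg.Agent.KFacts.Co1.InCo1
import Cfsg.Agent.CoOneType.CentOctad
set_option linter.all false

/-!
# The centralizer of a 2-central involution of `Spor.Co1` (helper813)

With `z`, `Q` of `StdG24.ExInst`: `Q` is large extraspecial for `z` (`large`), `C(z) / Q ≅ Ω⁺(8, 2)` (`equiv`),
`F*(C(z)) = Q` (`genFit`).
-/

set_option autoImplicit false

namespace Cfsg.Agent.H813.CoLarge

open Cfsg Cfsg.Agent.Co2Type.Quad Cfsg.Agent.CoOneNWC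
open Cfsg.Agent.StdG24.ExAlg Cfsg.Agent.StdG24.ExNorm Cfsg.Agent.StdG24.ExMain Cfsg.Agent.StdG24.ExCent
open Cfsg.Agent.StdG24.ExInst (z Q qg es card_Q)
open Cfsg.Agent.CoOneNWC.Coord (bits bits_xor bits_zero bits_eq_zero bits_surj)

theorem large : Large Q z where
  z_mem := z_mem
  z_ne := es.zne
  z_sq := es.zz
  comm_z _ hx := Q_comm_z hx
  conj_mem _ hg _ hx := norm_Q hg hx
  sq _ hx := sq hx
  comm x hx y hy := by
    rcases StdG24.ExCent.comm hx hy with h | h
    · exact Or.inl h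
    · right
      rw [h]
      exact (Q_comm_z (mul_mem hy hx)).symm
  cent x hx h := by
    by_contra hcon
    push Not at hcon
    obtain ⟨p, hp, hne⟩ := StdG24.ExCent.ext hx hcon.1 hcon.2
    exact hne (h p hp).symm
  self g hg h := by
    rcases CQ (k := g) h with h1 | h1
    · rw [h1]; exact one_mem Q
    · rw [h1]; exact z_mem

/-- the coordinates of an element of `Q` -/
noncomputable def cr (x : Q) : ℕ := Classical.choose (StdG24.ExInst.mem_Q.1 x.2)

theorem cr_lt (x : Q) : cr x < 256 := (Classical.choose_spec (StdG24.ExInst.mem_Q.1 x.2)).1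

theorem is_cr (x : Q) : Is qg z (cr x) (x : Spor.Co1) :=
  (Classical.choose_spec (StdG24.ExInst.mem_Q.1 x.2)).2

theorem cr_eq {x : Q} {n : ℕ} (hn : n < 256) (h : Is qg z n (x : Spor.Co1)) : cr x = n :=
  is_unique es (cr_lt x) hn (is_cr x) h

theorem cr_mul (x y : Q) : cr (x * y) = cr x ^^^ cr y :=
  cr_eq (xor_lt (cr_lt x) (cr_lt y)) ((is_cr x).mul es (is_cr y))

theorem cr_zero {x : Q} (h : cr x = 0) : (x : Spor.Co1) = 1 ∨ (x : Spor.Co1) = z := by
  have h1 := is_cr x
  rw [h] at h1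
  rcases h1 with h1 | h1
  · left; rw [h1, ev_zero]
  · right; rw [h1, ev_zero, one_mul]

theorem quad_bits : ∀ a : Fin (2 ^ 8),
    Cfsg.quadFormPlus 4 (ZMod 2) (bits a.1) = if qf a.1 then 1 else 0 := by
  decide +kernel

/-- linear coordinates of `Q / ⟨z⟩` -/
theorem exists_L : ∃ L : large.V ≃ₗ[ZMod 2] Wsp,
    ∀ v, large.q v = Cfsg.quadFormPlus 4 (ZMod 2) (L v) := by
  have h := large
  let f : Q → Wsp := fun x => bits (cr x)
  have hfm : ∀ x y, f (x * y) = f x + f y := by
    intro x y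
    show bits (cr (x * y)) = _
    rw [cr_mul, bits_xor]
  have hfz : f ⟨z, h.z_mem⟩ = 0 := by
    show bits (cr _) = 0
    rw [cr_eq (n := 0) (by norm_num) is_z, bits_zero]
  have hfz' : ∀ x y : Q, (x : Spor.Co1) = y * z → f x = f y := by
    intro x y hxy
    have h1 : x = y * ⟨z, h.z_mem⟩ := Subtype.ext hxy
    rw [h1, hfm, hfz, add_zero]
  have hf0 : ∀ x, f x = 0 → (x : Spor.Co1) = 1 ∨ (x : Spor.Co1) = z := by
    intro x hx
    have h1 := bits_eq_zero ⟨cr x, cr_lt x⟩ hx
    exact cr_zero (congrArg Fin.val h1)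
  have hpr : ∀ x y : Q, large.pr x = large.pr y → f x = f y := by
    intro x y hxy
    rcases large.pr_eq_pr.1 hxy with h1 | h1
    · rw [Subtype.ext h1]
    · exact hfz' x y h1
  let L0 : large.V → Wsp := fun v => f (Function.surjInv large.pr_surjective v)
  have hL0 : ∀ x, L0 (large.pr x) = f x := fun x =>
    hpr _ _ (Function.surjInv_eq large.pr_surjective (large.pr x))
  let L1 : large.V →+ Wsp :=
    { toFun := L0
      map_zero' := by
        rw [← large.pr_one, hL0]
        show bits (cr 1) = 0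
        rw [cr_eq (n := 0) (by norm_num) is_one, bits_zero]
      map_add' := by
        intro v w
        obtain ⟨x, rfl⟩ := large.pr_surjective v
        obtain ⟨y, rfl⟩ := large.pr_surjective w
        rw [← large.pr_mul, hL0, hL0, hL0, hfm] }
  have hbij : Function.Bijective (AddMonoidHom.toZModLinearMap 2 L1) := by
    constructor
    · rw [injective_iff_map_eq_zero]
      intro v hv
      obtain ⟨x, rfl⟩ := large.pr_surjective v
      have h1 : L0 (large.pr x) = 0 := hv
      rw [hL0] at h1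
      exact large.pr_eq_zero.2 (hf0 x h1)
    · intro w
      obtain ⟨a, ha⟩ := bits_surj w
      have ha2 : (a : ℕ) < 256 := a.2
      refine ⟨large.pr ⟨ev qg a.1, StdG24.ExInst.mem_Q.2 ⟨a.1, ha2, Or.inl rfl⟩⟩, ?_⟩
      show L0 _ = w
      rw [hL0]
      show bits (cr _) = w
      rw [cr_eq (n := a.1) ha2 (Or.inl rfl)]
      exact ha
  refine ⟨LinearEquiv.ofBijective _ hbij, ?_⟩
  intro v
  obtain ⟨x, rfl⟩ := large.pr_surjective v
  show large.q (large.pr x) = Cfsg.quadFormPlus 4 (ZMod 2) (L0 (large.pr x))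
  rw [hL0]
  show _ = Cfsg.quadFormPlus 4 (ZMod 2) (bits (cr x))
  rw [quad_bits ⟨cr x, cr_lt x⟩]
  have h3 := sq_eq es (is_cr x)
  show _ = if qf (cr x) then (1 : ZMod 2) else 0
  cases hq : qf (cr x)
  · rw [hq] at h3
    rw [large.q_eq_zero.2 h3]; rfl
  · rw [hq] at h3
    rw [large.q_eq_one.2 h3]; rfl

theorem perfect : commutator (Subgroup.centralizer ({z} : Set Spor.Co1)) = ⊤ := by
  rw [z_eq]
  exact KFacts.Co1.InCo1.commutator_eq_top wt_oM

theorem card_le : 89181388800 ≤ Nat.card (Subgroup.centralizer ({z} : Set Spor.Co1)) := by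
  rw [z_eq]
  exact CoOneType.CentOctad.card_centralizer wt_oM

theorem normal : (Q.subgroupOf (Subgroup.centralizer ({z} : Set Spor.Co1))).Normal :=
  LargeExtra.Nine.ToCent.normal large

theorem card_Q' : Nat.card Q = 2 ^ 9 := by rw [card_Q]; norm_num

theorem finite_co1 : Finite Cfsg.Spor.Co1 := by
  have : Finite Cfsg.Co0 := Cfsg.Agent.CoOneType.FrameFix.finite_co0
  unfold Cfsg.Spor.Co1
  infer_instance

/-- a second conjugate of `z` in `Q` -/
theorem exists_fus : ∃ g : Cfsg.Spor.Co1, g * z * g⁻¹ ∈ Q ∧ g * z * g⁻¹ ≠ z := by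
  have i4 : Is qg z 16 (qg 4) := is_q 4 (by norm_num)
  obtain ⟨g, hg⟩ := isConj_iff.1 StdG24.ExFin.isConj_q4.symm
  refine ⟨g, ?_, ?_⟩
  · rw [hg]
    exact mem_of_is (by norm_num) i4
  · rw [hg]
    intro h
    have := is_unique es (show 16 < 256 by norm_num) (show 0 < 256 by norm_num) i4 (by rw [h]; exact is_z)
    exact absurd this (by decide)

end Cfsg.Agent.H813.CoLarge
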