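import Cfsg.Agent.H163.PG.Prim
import Cfsg.Agent.H918.Transv
import Cfsg.Agent.H918.TransvWreath
import Cfsg.Agent.H883.Bridge
import Cfsg.Agent.H954.TSing4
import Cfsg.Agent.H931.SpProper
import Cfsg.Agent.S2430
import Cfsg.Agent.H262.ElTransv
import Cfsg.Agent.H931.SpWrap
import Cfsg.Agent.H955.Sp
import Cfsg.Agent.H278.ElDefs
import Cfsg.Agent.S5662
import Cfsg.Agent.H912.Core4
import Cfsg.Agent.FastGrp
import Cfsg.Agent.Prune
set_option linter.all false

section
prune_inst 0x7f00000000000000000000000000000000000000000000000000000000000000000000000000000000000000000000000000000000000000000000000000000000000000000000000000000000000000003fffffffffffffffffffffffffffbeffbdffffffff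

-- part: H262/ElOrd
section
set_option linter.all false
open scoped Cfsg.Agent.FastGrp

-- part: H262/ElFix
section
/-!
# TEAM ELUSIVE: elements of prime order `r` and the order of `q` modulo `r`
-/

set_option autoImplicit false

namespace Cfsg.Agent.H262.El

open Cfsg Cfsg.Geo Module
open scoped Matrix MatrixGroups

/-- `r` is a prime not dividing `q`, and `q` has order `n` modulo `r` -/
structure Od (q n r : ℕ) : Prop where
  prime : r.Prime
  ord : orderOf (q : ZMod r) = n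
  ndvd : ¬ r ∣ q

namespace Od

variable {q n r : ℕ}

theorem unit (h : Od q n r) : IsUnit (q : ZMod r) := by
  have := Fact.mk h.prime
  rw [isUnit_iff_ne_zero, Ne, ZMod.natCast_eq_zero_iff]
  exact h.ndvd

theorem dvd_iff (h : Od q n r) (hq : 1 ≤ q) (m : ℕ) : r ∣ q ^ m - 1 ↔ n ∣ m := by
  rw [← h.ord, orderOf_dvd_iff_pow_eq_one, ← ZMod.natCast_eq_zero_iff,
    Nat.cast_sub (Nat.one_le_pow _ _ hq), sub_eq_zero]
  push_cast
  rfl

theorem pos (h : Od q n r) : 0 < n := by
  have := Fact.mk h.prime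
  rw [← h.ord]
  have hu := h.unit
  rw [orderOf_pos_iff]
  exact isOfFinOrder_iff_pow_eq_one.2 ⟨r - 1, by have := h.prime.two_le; omega,
    ZMod.pow_card_sub_one_eq_one hu.ne_zero⟩

theorem dvd_pred (h : Od q n r) : n ∣ r - 1 := by
  have := Fact.mk h.prime
  rw [← h.ord]
  exact orderOf_dvd_of_pow_eq_one (ZMod.pow_card_sub_one_eq_one h.unit.ne_zero)

theorem lt (h : Od q n r) : n < r := by
  have h1 := Nat.le_of_dvd (by have := h.prime.one_lt; omega) h.dvd_pred
  have := h.prime.one_lt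
  omega

theorem of_ppd {p f : ℕ} (hp : p.Prime) (hf : 1 ≤ f) (hn : 1 ≤ n)
    (h : Cfsg.Agent.H163.PG.Ppd p (f * n) r) : Od (p ^ f) n r where
  prime := h.prime
  ord := h.orderOf_pow hf
  ndvd := by
    intro hd
    have h1 := (Nat.prime_dvd_prime_iff_eq h.prime hp).1 (h.prime.dvd_of_dvd_pow hd)
    exact h.ne (Nat.mul_pos hf hn) h1

end Od

/-- The dimension of a module for an element of order dividing `r` is congruent to the dimension of the
fixed space modulo the order of `q`. -/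
theorem finrank_fix {F : Type*} [Field F] [Fintype F] {W : Type*} [AddCommGroup W] [Module F W]
    [FiniteDimensional F W] {n r : ℕ} (h : Od (Fintype.card F) n r) (f : Module.End F W) (hf : f ^ r = 1) :
    n ∣ finrank F W - finrank F (LinearMap.ker (f - 1)) := by
  classical
  have := Fact.mk h.prime
  have hfin : Finite W := Module.finite_of_finite F
  have : Fintype W := Fintype.ofFinite W
  set K := LinearMap.ker (f - 1) with hK
  have hle : finrank F K ≤ finrank F W := Submodule.finrank_le K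
  let g : Function.End W := fun w => f w
  have hg : g ^ r ^ 1 = 1 := by
    have h1 : ∀ k : ℕ, ∀ w, (g ^ k) w = (f ^ k) w := by
      intro k
      induction k with
      | zero => intro w; rfl
      | succ k ih =>
        intro w
        rw [pow_succ, pow_succ]
        exact ih (f w)
    funext w
    rw [pow_one, h1, hf]
    rfl
  have hmod := Equiv.Perm.card_fixedPoints_modEq (f := g) (p := r) (n := 1) hg
  have h1 : Fintype.card W = Fintype.card F ^ finrank F W := Module.card_eq_pow_finrank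
  have h2 : Fintype.card g.fixedPoints = Fintype.card F ^ finrank F K := by
    rw [← Module.card_eq_pow_finrank (K := F) (V := K)]
    refine Fintype.card_congr (Equiv.subtypeEquivRight fun w => ?_)
    rw [hK, LinearMap.mem_ker, LinearMap.sub_apply, sub_eq_zero]
    rfl
  rw [h1, h2] at hmod
  obtain ⟨d, hd⟩ := Nat.exists_eq_add_of_le hle
  rw [hd, pow_add] at hmod
  have h3 : (Fintype.card F : ZMod r) ^ finrank F K * (Fintype.card F : ZMod r) ^ d =
      (Fintype.card F : ZMod r) ^ finrank F K := by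
    have := (ZMod.natCast_eq_natCast_iff _ _ _).2 hmod
    push_cast at this
    exact this
  have h4 : (Fintype.card F : ZMod r) ^ d = 1 := by
    have hu := (h.unit.pow (finrank F K)).ne_zero
    have h5 := mul_left_cancel₀ hu (h3.trans (mul_one _).symm)
    exact h5
  rw [hd, Nat.add_sub_cancel_left, ← h.ord]
  exact orderOf_dvd_of_pow_eq_one h4

variable {ι : Type} [Fintype ι] [DecidableEq ι] {F : Type*} [Field F]

/-- the fixed space of a matrix -/
def fixS (x : GL ι F) : Submodule F (ι → F) := LinearMap.ker (Matrix.mulVecLin (x : Matrix ι ι F) - 1)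

theorem mem_fixS {x : GL ι F} {v : ι → F} : v ∈ fixS x ↔ (x : Matrix ι ι F) *ᵥ v = v := by
  rw [fixS, LinearMap.mem_ker, LinearMap.sub_apply, sub_eq_zero]
  rfl

theorem fixS_eq_top {x : GL ι F} (h : fixS x = ⊤) : x = 1 := by
  apply Units.ext
  apply Matrix.ext_of_mulVec_single
  intro i
  rw [mem_fixS.1 (h ▸ Submodule.mem_top), Units.val_one, Matrix.one_mulVec]

theorem pow_mulVec {x : GL ι F} {v : ι → F} (k : ℕ) :
    ((x ^ (k + 1) : GL ι F) : Matrix ι ι F) *ᵥ v =
      ((x ^ k : GL ι F) : Matrix ι ι F) *ᵥ ((x : Matrix ι ι F) *ᵥ v) := by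
  rw [pow_succ, Units.val_mul, ← Matrix.mulVec_mulVec]

/-- the dimension of an invariant subspace modulo the order of `q` -/
theorem finrank_inv [Fintype F] {n r : ℕ} (h : Od (Fintype.card F) n r) {x : GL ι F} (hx : x ^ r = 1)
    (W : Submodule F (ι → F)) (hW : ∀ v ∈ W, (x : Matrix ι ι F) *ᵥ v ∈ W) :
    n ∣ finrank F W - finrank F (W ⊓ fixS x : Submodule F (ι → F)) := by
  let f : Module.End F W := (Matrix.mulVecLin (x : Matrix ι ι F)).restrict hW
  have hfv : ∀ w : W, ((f w : W) : ι → F) = (x : Matrix ι ι F) *ᵥ (w : ι → F) := fun w => rfl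
  have hfk : ∀ k : ℕ, ∀ w : W, (((f ^ k) w : W) : ι → F) = ((x ^ k : GL ι F) : Matrix ι ι F) *ᵥ (w : ι → F) := by
    intro k
    induction k with
    | zero => intro w; simp
    | succ k ih =>
      intro w
      rw [pow_succ, Module.End.mul_apply, ih, hfv, pow_mulVec]
  have hf : f ^ r = 1 := by
    ext w : 1
    apply Subtype.ext
    rw [hfk, hx, Units.val_one, Matrix.one_mulVec]
    rfl
  have h1 := finrank_fix h f hf
  have h2 : finrank F (LinearMap.ker (f - 1)) = finrank F (W ⊓ fixS x : Submodule F (ι → F)) := by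
    have e : (LinearMap.ker (f - 1)).map W.subtype = W ⊓ fixS x := by
      ext v
      constructor
      · rintro ⟨w, hw, rfl⟩
        refine ⟨w.2, mem_fixS.2 ?_⟩
        have h3 : f w - w = 0 := hw
        have h4 := congrArg Subtype.val (sub_eq_zero.1 h3)
        exact h4
      · rintro ⟨hv, hv'⟩
        refine ⟨⟨v, hv⟩, ?_, rfl⟩
        change f ⟨v, hv⟩ - ⟨v, hv⟩ = 0
        rw [sub_eq_zero]
        exact Subtype.ext (mem_fixS.1 hv')
    rw [← e]
    exact (Submodule.equivMapOfInjective _ W.injective_subtype _).finrank_eq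
  rw [h2] at h1
  exact h1

/-- The dimension of the fixed space. -/
theorem finrank_fixS [Fintype F] {n r : ℕ} (h : Od (Fintype.card F) n r) {x : GL ι F} (hx : x ^ r = 1) :
    n ∣ Fintype.card ι - finrank F (fixS x) := by
  have h1 := finrank_inv h hx ⊤ (fun _ _ => Submodule.mem_top)
  rwa [top_inf_eq, finrank_top, Module.finrank_fintype_fun_eq_card] at h1

theorem finrank_fixS_lt {x : GL ι F} (hx : x ≠ 1) : finrank F (fixS x) < Fintype.card ι := by
  refine lt_of_le_of_ne ?_ ?_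
  · have := Submodule.finrank_le (fixS x)
    rwa [Module.finrank_fintype_fun_eq_card] at this
  · intro h
    apply hx
    apply fixS_eq_top
    apply Submodule.eq_top_of_finrank_eq
    rw [h, Module.finrank_fintype_fun_eq_card]

/-- An element of order `r` is irreducible if `q` has order `dim V` modulo `r`. -/
theorem irr_of_od [Fintype F] {r : ℕ} (h : Od (Fintype.card F) (Fintype.card ι) r) {x : GL ι F}
    (hx : x ^ r = 1) (hx1 : x ≠ 1) (W : Submodule F (ι → F))
    (hW : ∀ v ∈ W, (x : Matrix ι ι F) *ᵥ v ∈ W) : W = ⊥ ∨ W = ⊤ := by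
  have h1 := finrank_fixS h hx
  have h2 := finrank_fixS_lt hx1
  have h3 : finrank F (fixS x) = 0 := by
    by_contra h0
    have := Nat.le_of_dvd (by omega) h1
    omega
  have h4 : fixS x = ⊥ := Submodule.finrank_eq_zero.1 h3
  have h5 := finrank_inv h hx W hW
  rw [h4, inf_bot_eq, finrank_bot, Nat.sub_zero] at h5
  have h6 := Submodule.finrank_le W
  rw [Module.finrank_fintype_fun_eq_card] at h6
  rcases Nat.eq_zero_or_pos (finrank F W) with h7 | h7
  · exact Or.inl (Submodule.finrank_eq_zero.1 h7)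
  · right
    apply Submodule.eq_top_of_finrank_eq
    rw [Module.finrank_fintype_fun_eq_card]
    exact le_antisymm h6 (Nat.le_of_dvd h7 h5)

/-- an irreducible element is in no stabiliser of a subspace -/
theorem not_mem_subspaceStabilizer_of_irr {x : GL ι F}
    (hx : ∀ W : Submodule F (ι → F), (∀ v ∈ W, (x : Matrix ι ι F) *ᵥ v ∈ W) → W = ⊥ ∨ W = ⊤)
    {W : Submodule F (ι → F)} (h0 : W ≠ ⊥) (h1 : W ≠ ⊤) : x ∉ subspaceStabilizer W := by
  intro hm
  rcases hx W (fun v hv => (Cfsg.Agent.H918.mem_subspaceStabilizer.1 hm v).1 hv) with h | h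
  · exact h0 h
  · exact h1 h

/-- an element of prime order `r > t` in a decomposition stabiliser fixes all members -/
theorem fixes_of_decomposition {t m : ℕ} {D : Fin t → Submodule F (ι → F)} (hD : IsMDecomposition m D)
    {x : GL ι F} (hx : x ∈ decompositionStabilizer D) {r : ℕ} (hr : r.Prime) (hrt : t < r)
    (hxr : x ^ r = 1) (i : Fin t) : ∀ v ∈ D i, (x : Matrix ι ι F) *ᵥ v ∈ D i := by
  obtain ⟨σ, hσ⟩ := hx
  have hpow : ∀ k : ℕ, ∀ i, (D i).map (Matrix.toLin' ((x ^ k : GL ι F) : Matrix ι ι F)) = D ((σ ^ k) i) := by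
    intro k
    induction k with
    | zero => intro i; simp
    | succ k ih =>
      intro i
      rw [pow_succ, Units.val_mul, Matrix.toLin'_mul, Submodule.map_comp, hσ, ih, pow_succ]
      rfl
  have hσr : σ ^ r = 1 := by
    ext i : 1
    apply Cfsg.Agent.H918.decomp_injective hD
    have h1 := hpow r i
    rw [hxr] at h1
    rw [← h1]
    simp
  have hσ1 : σ = 1 := by
    have h1 : orderOf σ ∣ r := orderOf_dvd_of_pow_eq_one hσr
    rcases (Nat.dvd_prime hr).1 h1 with h2 | h2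
    · exact orderOf_eq_one_iff.1 h2
    · exfalso
      have h3 : orderOf σ ∣ Fintype.card (Equiv.Perm (Fin t)) := orderOf_dvd_card
      rw [h2, Fintype.card_perm, Fintype.card_fin, hr.dvd_factorial] at h3
      omega
  intro v hv
  have h1 := hσ i
  rw [hσ1] at h1
  change (D i).map _ = D i at h1
  rw [← h1]
  exact ⟨v, hv, rfl⟩

end Cfsg.Agent.H262.El
end

-- part: H262/ElOrd
section
/-!
# TEAM ELUSIVE: elements of prime order `r` in subfield groups and tensor wreath groups
-/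

set_option autoImplicit false

namespace Cfsg.Agent.H262.El

open Cfsg Cfsg.Geo Module
open scoped Matrix MatrixGroups

theorem eq_one_of_coprime {G : Type*} [Group G] {x : G} {r N : ℕ} (hr : r.Prime) (hx : x ^ r = 1)
    (hN : x ^ N = 1) (h : ¬ r ∣ N) : x = 1 := by
  have h1 : orderOf x ∣ r := orderOf_dvd_of_pow_eq_one hx
  have h2 : orderOf x ∣ N := orderOf_dvd_of_pow_eq_one hN
  rcases (Nat.dvd_prime hr).1 h1 with h3 | h3
  · exact orderOf_eq_one_iff.1 h3
  · rw [h3] at h2
    exact absurd h2 h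

/-- a prime not dividing the order of `GL_n(q)` -/
theorem not_dvd_card_GL {ι : Type} [Fintype ι] [DecidableEq ι] {F : Type*} [Field F] [Fintype F] {r : ℕ}
    (hr : r.Prime) (hq : ¬ r ∣ Fintype.card F)
    (h : ∀ j, 1 ≤ j → j ≤ Fintype.card ι → ¬ r ∣ Fintype.card F ^ j - 1) :
    ¬ r ∣ Nat.card (GL ι F) := by
  have e : GL ι F ≃* GL (Fin (Fintype.card ι)) F := glReindex (Fintype.equivFin ι)
  rw [Nat.card_congr e.toEquiv, Matrix.card_GL_field]
  intro hd
  obtain ⟨i, -, hi⟩ := (Prime.dvd_finset_prod_iff hr.prime _).1 hd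
  have h1 : Fintype.card F ^ Fintype.card ι - Fintype.card F ^ (i : ℕ) =
      Fintype.card F ^ (i : ℕ) * (Fintype.card F ^ (Fintype.card ι - i) - 1) := by
    rw [Nat.mul_sub, mul_one, ← pow_add]
    congr 2
    have := i.2
    omega
  rw [h1, hr.dvd_mul] at hi
  rcases hi with hi | hi
  · exact hq (hr.dvd_of_dvd_pow hi)
  · exact h _ (by have := i.2; omega) (by omega) hi

variable {ι : Type} [Fintype ι] [DecidableEq ι] {F : Type*} [Field F]

theorem scalar_pow_card [Fintype F] {z : GL ι F} (hz : z ∈ scalars ι F) :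
    z ^ (Fintype.card F - 1) = 1 := by
  obtain ⟨c, hc⟩ := (mem_scalars_iff z).1 hz
  apply Units.ext
  have hk : ∀ k : ℕ, ((z ^ k : GL ι F) : Matrix ι ι F) = ((c : F) ^ k) • (1 : Matrix ι ι F) := by
    intro k
    rw [Units.val_pow_eq_pow_val, hc, smul_pow, one_pow]
  rw [hk, FiniteField.pow_card_sub_one_eq_one _ c.ne_zero, one_smul, Units.val_one]

theorem scalar_comm {z : GL ι F} (hz : z ∈ scalars ι F) (g : GL ι F) : Commute z g :=
  Cfsg.Agent.H918.commute_of_mem_scalars hz g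

/-- elements of order `r` in subfield groups -/
theorem eq_one_of_mem_subfieldSubgroup [Fintype F] {F₀ : Subfield F} {P x : GL ι F}
    (hx : x ∈ subfieldSubgroup F₀ P) {r : ℕ} (hr : r.Prime) (hxr : x ^ r = 1)
    (hq : ¬ r ∣ Nat.card F₀) (h1 : ¬ r ∣ Fintype.card F - 1)
    (h : ∀ j, 1 ≤ j → j ≤ Fintype.card ι → ¬ r ∣ Nat.card F₀ ^ j - 1) : x = 1 := by
  classical
  have : Fintype F₀ := Fintype.ofFinite F₀
  rw [Nat.card_eq_fintype_card] at hq h
  have hN := not_dvd_card_GL (ι := ι) (F := F₀) hr hq h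
  set N := Nat.card (GL ι F₀) with hNd
  obtain ⟨y, hy, rfl⟩ := hx
  obtain ⟨a, ⟨b, hb⟩, z, hz, hab⟩ := Subgroup.mem_sup_of_normal_right.1 hy
  have hyN : y ^ (N * (Fintype.card F - 1)) = 1 := by
    have e1 : z ^ (N * (Fintype.card F - 1)) = 1 := by
      rw [mul_comm, pow_mul, scalar_pow_card hz, one_pow]
    have e2 : a ^ (N * (Fintype.card F - 1)) = 1 := by
      rw [pow_mul, ← hb, ← map_pow, pow_card_eq_one', map_one, one_pow]
    rw [← hab, (scalar_comm hz a).symm.mul_pow, e1, e2, one_mul]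
  refine eq_one_of_coprime hr hxr (N := N * (Fintype.card F - 1)) ?_ ?_
  · rw [← map_pow, hyN, map_one]
  · rw [hr.dvd_mul]
    push Not
    exact ⟨hN, h1⟩

/-- elements of prime order `r > t` in tensor wreath groups -/
theorem eq_one_of_mem_tensorWreathStandard [Fintype F] {m t : ℕ} {x : GL (Fin t → Fin m) F}
    (hx : x ∈ tensorWreathStandard m t F) {r : ℕ} (hr : r.Prime) (hxr : x ^ r = 1) (ht : t < r)
    (hq : ¬ r ∣ Fintype.card F) (h : ∀ j, 1 ≤ j → j ≤ m → ¬ r ∣ Fintype.card F ^ j - 1) : x = 1 := by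
  obtain ⟨gs, σ, hg⟩ := Cfsg.Agent.H918.isWreathElt_of_mem hx
  have hN := not_dvd_card_GL (ι := Fin m) (F := F) hr hq (by rwa [Fintype.card_fin])
  set N := Nat.card (GL (Fin m) F) with hNd
  have hpow : ∀ k : ℕ, ∃ hs : Fin t → GL (Fin m) F, ∀ a b,
      ((x ^ k : GL (Fin t → Fin m) F) : Matrix (Fin t → Fin m) (Fin t → Fin m) F) a b =
        ∏ i, (hs i : Matrix (Fin m) (Fin m) F) (a i) (b ((σ ^ k) i)) := by
    intro k
    induction k with
    | zero =>
      refine ⟨fun _ => 1, fun a b => ?_⟩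
      simp only [pow_zero, Units.val_one, Equiv.Perm.coe_one, id_eq, Matrix.one_apply]
      by_cases h : a = b
      · subst h; simp
      · rw [if_neg h]
        obtain ⟨i, hi⟩ := Function.ne_iff.1 h
        exact (Finset.prod_eq_zero (Finset.mem_univ i) (if_neg hi)).symm
    | succ k ih =>
      obtain ⟨hs, hk⟩ := ih
      refine ⟨fun i => gs i * hs (σ i), fun a b => ?_⟩
      rw [pow_succ', pow_succ]
      exact Cfsg.Agent.H918.wreath_mul_apply hg hk a b
  obtain ⟨hs, hk⟩ := hpow t.factorial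
  have hσ : σ ^ t.factorial = 1 := by
    have : t.factorial = Fintype.card (Equiv.Perm (Fin t)) := by
      rw [Fintype.card_perm, Fintype.card_fin]
    rw [this, pow_card_eq_one]
  rw [hσ] at hk
  have hpure : ∀ k : ℕ, ∀ a b,
      (((x ^ t.factorial) ^ k : GL (Fin t → Fin m) F) : Matrix (Fin t → Fin m) (Fin t → Fin m) F) a b =
        ∏ i, ((hs i ^ k : GL (Fin m) F) : Matrix (Fin m) (Fin m) F) (a i) (b i) := by
    intro k
    induction k with
    | zero =>
      intro a b
      simp only [pow_zero, Units.val_one, Matrix.one_apply]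
      by_cases h : a = b
      · subst h; simp
      · rw [if_neg h]
        obtain ⟨i, hi⟩ := Function.ne_iff.1 h
        exact (Finset.prod_eq_zero (Finset.mem_univ i) (if_neg hi)).symm
    | succ k ih =>
      intro a b
      rw [pow_succ']
      have h1 := Cfsg.Agent.H918.wreath_mul_apply (g := x ^ t.factorial) (h := (x ^ t.factorial) ^ k)
        (gs := hs) (hs := fun i => hs i ^ k) (σ := 1) (τ := 1) hk ih a b
      rw [h1]
      refine Finset.prod_congr rfl fun i _ => ?_
      rw [pow_succ']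
      rfl
  refine eq_one_of_coprime hr hxr (N := t.factorial * N) ?_ ?_
  · rw [pow_mul]
    apply Units.ext
    ext a b
    rw [hpure, Units.val_one, Matrix.one_apply]
    have h1 : ∀ i, hs i ^ N = 1 := fun i => pow_card_eq_one'
    simp only [h1, Units.val_one, Matrix.one_apply]
    by_cases h : a = b
    · subst h; simp
    · rw [if_neg h]
      obtain ⟨i, hi⟩ := Function.ne_iff.1 h
      exact Finset.prod_eq_zero (Finset.mem_univ i) (if_neg hi)
  · rw [hr.dvd_mul, hr.dvd_factorial]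
    push Not
    exact ⟨ht, hN⟩

/-- elements of prime order `r > t` in tensor wreath groups -/
theorem eq_one_of_mem_tensorWreathSubgroup [Fintype F] {m t : ℕ} {e : ι ≃ (Fin t → Fin m)} {P x : GL ι F}
    (hx : x ∈ tensorWreathSubgroup m t e P) {r : ℕ} (hr : r.Prime) (hxr : x ^ r = 1) (ht : t < r)
    (hq : ¬ r ∣ Fintype.card F) (h : ∀ j, 1 ≤ j → j ≤ m → ¬ r ∣ Fintype.card F ^ j - 1) : x = 1 := by
  obtain ⟨x', ⟨k, hk, rfl⟩, rfl⟩ := hx
  have hk1 : k ^ r = 1 := by
    have h1 : (MulAut.conj P).toMonoidHom ((glReindex e.symm).toMonoidHom (k ^ r)) = 1 := by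
      rw [map_pow, map_pow]
      exact hxr
    have h2 : (glReindex e.symm).toMonoidHom (k ^ r) = 1 := by
      apply (MulAut.conj P).injective
      rw [map_one]
      exact h1
    apply (glReindex e.symm).injective
    rw [map_one]
    exact h2
  rw [eq_one_of_mem_tensorWreathStandard hk hr hk1 ht hq h, map_one, map_one]

end Cfsg.Agent.H262.El
end

private theorem dce_b32072b408f8 : _root_.True := by
  try have : _root_.True := by simp only [_root_.Cfsg.Agent.H262.El.fixS.eq_1]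
  exact _root_.True.intro
end

-- part: H262/ElSympPSp
section
set_option linter.all false
open scoped Cfsg.Agent.FastGrp

-- part: H262/ElQuad
section
/-!
# TEAM ELUSIVE, symplectic row: the orthogonal subgroups in characteristic two
-/

set_option autoImplicit false

namespace Cfsg.Agent.H262.El

open Cfsg Cfsg.Geo Module
open scoped Matrix MatrixGroups

variable {ι : Type} [Fintype ι] [DecidableEq ι] {F : Type*} [Field F]

/-- number of singular vectors modulo `r` for a similarity of order `r` without fixed vectors -/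
theorem card_sing_modEq [Finite F] {r : ℕ} (hr : r.Prime) {Q : (ι → F) → F} {x : GL ι F}
    (hxQ : x ∈ quadSimilarityGroup Q) (hQ0 : Q 0 = 0) (hxr : x ^ r = 1)
    (hfix : ∀ v, (x : Matrix ι ι F) *ᵥ v = v → v = 0) : Nat.card {v : ι → F // Q v = 0} ≡ 1 [MOD r] := by
  classical
  have := Fact.mk hr
  have : Fintype F := Fintype.ofFinite F
  have : Fintype {v : ι → F // Q v = 0} := Fintype.ofFinite _
  obtain ⟨c, hc⟩ := hxQ
  let g : Function.End {v : ι → F // Q v = 0} := fun v =>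
    ⟨(x : Matrix ι ι F) *ᵥ v.1, by rw [hc, v.2, mul_zero]⟩
  have hg : g ^ r ^ 1 = 1 := by
    have h1 : ∀ k : ℕ, ∀ w, ((g ^ k) w : {v : ι → F // Q v = 0}).1 =
        ((x ^ k : GL ι F) : Matrix ι ι F) *ᵥ w.1 := by
      intro k
      induction k with
      | zero =>
        intro w
        rw [pow_zero, pow_zero, Units.val_one, Matrix.one_mulVec]
        rfl
      | succ k ih =>
        intro w
        rw [pow_succ, pow_mulVec]
        exact ih (g w)
    funext w
    apply Subtype.ext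
    rw [pow_one, h1, hxr, Units.val_one, Matrix.one_mulVec]
    rfl
  have hmod := Equiv.Perm.card_fixedPoints_modEq (f := g) (p := r) (n := 1) hg
  have h2 : Fintype.card g.fixedPoints = 1 := by
    rw [Fintype.card_eq_one_iff]
    refine ⟨⟨⟨0, hQ0⟩, ?_⟩, ?_⟩
    · apply Subtype.ext
      exact Matrix.mulVec_zero _
    · rintro ⟨⟨v, hv⟩, hv'⟩
      apply Subtype.ext
      apply Subtype.ext
      apply hfix
      exact congrArg Subtype.val hv'
  rw [h2] at hmod
  rw [Nat.card_eq_fintype_card]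
  exact hmod

/-- the two possible numbers of singular vectors, modulo `r` -/
theorem quad_dichotomy [Fintype F] {m r : ℕ} (hm : 1 ≤ m) (hι : Fintype.card ι = 2 * m) (hr : r.Prime)
    {Q : (ι → F) → F} (hQ : IsNondegenerateQuadraticForm Q) {x : GL ι F}
    (hxQ : x ∈ quadSimilarityGroup Q) (hxr : x ^ r = 1)
    (hfix : ∀ v, (x : Matrix ι ι F) *ᵥ v = v → v = 0) :
    ((∃ Q' : QuadraticForm F (ι → F), ⇑Q' = Q ∧ Cfsg.Agent.H955.IsPlus Q') ∧
      ((Fintype.card F : ZMod r) ^ m - 1) * ((Fintype.card F : ZMod r) ^ (m - 1) + 1) = 0) ∨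
    ((∃ Q' : QuadraticForm F (ι → F), ⇑Q' = Q ∧ ¬ Cfsg.Agent.H955.IsPlus Q') ∧
      ((Fintype.card F : ZMod r) ^ m + 1) * ((Fintype.card F : ZMod r) ^ (m - 1) - 1) = 0) := by
  obtain ⟨Q', hQ', hnd⟩ := Cfsg.Agent.H883.Bridge.exists_quadraticForm hQ
  have hQ0 : Q 0 = 0 := by rw [← hQ', QuadraticMap.map_zero]
  have h1 := card_sing_modEq hr hxQ hQ0 hxr hfix
  have hd : finrank F (ι → F) = 2 * m := by rw [Module.finrank_fintype_fun_eq_card, hι]
  have hle : Fintype.card F ^ (m - 1) ≤ Fintype.card F ^ m :=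
    Nat.pow_le_pow_right Fintype.card_pos (by omega)
  have hle2 : Fintype.card F ^ m ≤ Fintype.card F ^ (2 * m - 1) :=
    Nat.pow_le_pow_right Fintype.card_pos (by omega)
  have hsp : (Fintype.card F : ZMod r) ^ (2 * m - 1) =
      (Fintype.card F : ZMod r) ^ m * (Fintype.card F : ZMod r) ^ (m - 1) := by
    rw [← pow_add]
    congr 1
    omega
  by_cases hP : Cfsg.Agent.H955.IsPlus Q'
  · left
    refine ⟨⟨Q', hQ', hP⟩, ?_⟩
    have h2 := Cfsg.Agent.H954.TSing.card_sing_plus hnd hm hd hP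
    rw [← hQ'] at h1
    have h3 : (Nat.card {v : ι → F // Q' v = 0} : ZMod r) = 1 := by
      have := (ZMod.natCast_eq_natCast_iff _ _ _).2 h1
      rw [Nat.cast_one] at this
      exact this
    rw [h2, Nat.cast_sub (by omega), Nat.cast_add] at h3
    push_cast at h3
    rw [hsp] at h3
    linear_combination h3
  · right
    refine ⟨⟨Q', hQ', hP⟩, ?_⟩
    have h2 := Cfsg.Agent.H954.TSing.card_sing_minus hnd hm hd hP
    rw [← hQ'] at h1
    have h3 : (Nat.card {v : ι → F // Q' v = 0} : ZMod r) = 1 := by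
      have := (ZMod.natCast_eq_natCast_iff _ _ _).2 h1
      rw [Nat.cast_one] at this
      exact this
    rw [h2, Nat.cast_sub (by omega), Nat.cast_add] at h3
    push_cast at h3
    rw [hsp] at h3
    linear_combination h3

/-! ### An element of order `r ∣ q + 1` without fixed vectors -/

/-- `m` copies of a matrix in `SL₂` -/
def sl (m : ℕ) (A : Matrix (Fin 2) (Fin 2) F) : Matrix (Fin m ⊕ Fin m) (Fin m ⊕ Fin m) F :=
  Matrix.fromBlocks (A 0 0 • 1) (A 0 1 • 1) (A 1 0 • 1) (A 1 1 • 1)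

theorem sl_mul (m : ℕ) (A B : Matrix (Fin 2) (Fin 2) F) : sl m (A * B) = sl m A * sl m B := by
  simp only [sl, Matrix.fromBlocks_multiply, Matrix.mul_apply, Fin.sum_univ_two, add_smul,
    Matrix.smul_mul, Matrix.one_mul, smul_smul]

theorem sl_one (m : ℕ) : sl m (1 : Matrix (Fin 2) (Fin 2) F) = 1 := by
  simp only [sl, _root_.Matrix.one_apply_eq, _root_.one_smul, _root_.Fin.isValue, _root_.ne_eq, _root_.zero_ne_one, _root_.not_false_eq_true, _root_.Matrix.one_apply_ne, _root_.zero_smul, _root_.one_ne_zero, _root_.Matrix.fromBlocks_one]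

theorem sl_mem (m : ℕ) (A : Matrix.SpecialLinearGroup (Fin 2) F) :
    sl m (A : Matrix (Fin 2) (Fin 2) F) ∈ Matrix.symplecticGroup (Fin m) F := by
  have h := A.2
  rw [Matrix.det_fin_two] at h
  rw [sl, SymplecticGroup.fromBlocks_mem_iff]
  refine ⟨?_, ?_, ?_⟩
  · simp only [smul_smul, mul_comm, _root_.Fin.isValue, _root_.Matrix.transpose_smul, _root_.Matrix.transpose_one, _root_.Algebra.mul_smul_comm, _root_.mul_one]
  · simp only [smul_smul, mul_comm, _root_.Fin.isValue, _root_.Matrix.transpose_smul, _root_.Matrix.transpose_one, _root_.Algebra.mul_smul_comm, _root_.mul_one]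
  · simp only [Matrix.transpose_smul, Matrix.transpose_one, Matrix.smul_mul, Matrix.one_mul, smul_smul,
      ← sub_smul]
    rw [show A.1 0 0 * A.1 1 1 - A.1 1 0 * A.1 0 1 = 1 by linear_combination h, one_smul]

/-- the homomorphism from `SL₂` -/
noncomputable def slHom (m : ℕ) : Matrix.SpecialLinearGroup (Fin 2) F →* Matrix.symplecticGroup (Fin m) F where
  toFun A := ⟨sl m (A : Matrix (Fin 2) (Fin 2) F), sl_mem m A⟩
  map_one' := Subtype.ext ((congrArg (sl m) Matrix.SpecialLinearGroup.coe_one).trans (sl_one m))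
  map_mul' A B := Subtype.ext ((congrArg (sl m) (Matrix.SpecialLinearGroup.coe_mul A B)).trans (sl_mul m _ _))

theorem sub_one_eq (M : Matrix (Fin 2) (Fin 2) F) : M - 1 = !![M 0 0 - 1, M 0 1; M 1 0, M 1 1 - 1] := by
  conv_lhs => rw [Matrix.eta_fin_two M, Matrix.one_fin_two]
  simp

theorem sub_one_sq {M : Matrix (Fin 2) (Fin 2) F} (htr : M 0 0 + M 1 1 = 2)
    (h : M 0 0 * M 1 1 - M 0 1 * M 1 0 = 1) : (M - 1) * (M - 1) = 0 := by
  rw [sub_one_eq, Matrix.mul_fin_two]
  have e1 : (M 0 0 - 1) * (M 0 0 - 1) + M 0 1 * M 1 0 = 0 := by linear_combination (M 0 0) * htr - h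
  have e2 : (M 0 0 - 1) * M 0 1 + M 0 1 * (M 1 1 - 1) = 0 := by linear_combination (M 0 1) * htr
  have e3 : M 1 0 * (M 0 0 - 1) + (M 1 1 - 1) * M 1 0 = 0 := by linear_combination (M 1 0) * htr
  have e4 : M 1 0 * M 0 1 + (M 1 1 - 1) * (M 1 1 - 1) = 0 := by linear_combination (M 1 1) * htr - h
  rw [e1, e2, e3, e4]
  ext i j
  fin_cases i <;> fin_cases j <;> rfl

/-- an element of `SL₂(q)` of odd order prime to the characteristic has no fixed vectors -/
theorem sl2_no_fix {r : ℕ} {M : Matrix (Fin 2) (Fin 2) F} (hdet : M.det = 1) (hA : M ^ r = 1) (hA1 : M ≠ 1)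
    (hr : (r : F) ≠ 0) : (M - 1).det ≠ 0 := by
  intro h0
  rw [Matrix.det_fin_two] at hdet
  rw [sub_one_eq, Matrix.det_fin_two_of] at h0
  have htr : M 0 0 + M 1 1 = 2 := by linear_combination hdet - h0
  have hsq := sub_one_sq htr hdet
  have hpow : ∀ k : ℕ, M ^ k = 1 + (k : F) • (M - 1) := by
    intro k
    induction k with
    | zero => simp
    | succ k ih =>
      have h1 : M = 1 + (M - 1) := by abel
      calc M ^ (k + 1) = M ^ k * M := pow_succ _ _
        _ = (1 + (k : F) • (M - 1)) * (1 + (M - 1)) := by rw [ih, ← h1]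
        _ = 1 + ((k + 1 : ℕ) : F) • (M - 1) := by
          rw [add_mul, one_mul, mul_add, mul_one, Matrix.smul_mul, hsq, smul_zero, add_zero]
          push_cast
          rw [add_smul, one_smul]
          abel
  have h1 := hpow r
  rw [hA, left_eq_add] at h1
  rcases smul_eq_zero.1 h1 with h2 | h2
  · exact hr h2
  · exact hA1 (sub_eq_zero.1 h2)

/-- **An element of order `r` without fixed vectors in `Sp_2m(q)`, `r ∣ q + 1`.** -/
theorem exists_no_fix [Fintype F] {m r : ℕ} (hr : r.Prime) (hrF : (r : F) ≠ 0) (hd : r ∣ Fintype.card F + 1) :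
    ∃ x ∈ spGL m F, x ^ r = 1 ∧ ∀ v, (x : Matrix (Fin m ⊕ Fin m) (Fin m ⊕ Fin m) F) *ᵥ v = v → v = 0 := by
  have := Fact.mk hr
  have hcard := Cfsg.Agent.S2430.card_SL (F := F)
  obtain ⟨A, hA⟩ := exists_prime_orderOf_dvd_card' (G := Matrix.SpecialLinearGroup (Fin 2) F) r
    (hcard ▸ Dvd.dvd.mul_left hd _)
  have hAr : A ^ r = 1 := by rw [← hA, pow_orderOf_eq_one]
  have hA1 : A ≠ 1 := by
    rintro rfl
    rw [orderOf_one] at hA
    exact hr.one_lt.ne hA
  refine ⟨Cfsg.Agent.H876.spToGL m F (slHom m A), Cfsg.Agent.H931.spToGL_mem _, ?_, ?_⟩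
  · rw [← map_pow, ← map_pow, hAr, map_one, map_one]
  · intro v hv
    have hv' : sl m (A : Matrix (Fin 2) (Fin 2) F) *ᵥ v = v := hv
    have hdet := sl2_no_fix (M := (A : Matrix (Fin 2) (Fin 2) F)) A.2
      (by rw [← Matrix.SpecialLinearGroup.coe_pow, hAr, Matrix.SpecialLinearGroup.coe_one])
      (fun h => hA1 (Subtype.ext (h.trans Matrix.SpecialLinearGroup.coe_one.symm))) hrF
    have key : ∀ i, ((A : Matrix (Fin 2) (Fin 2) F) - 1) *ᵥ ![v (Sum.inl i), v (Sum.inr i)] = 0 := by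
      intro i
      have h1 := congrFun hv' (Sum.inl i)
      have h2 := congrFun hv' (Sum.inr i)
      rw [sl, Matrix.fromBlocks_mulVec] at h1 h2
      simp only [Sum.elim_inl, Sum.elim_inr, Pi.add_apply, Matrix.smul_mulVec, Matrix.one_mulVec, Pi.smul_apply,
        Function.comp_apply, smul_eq_mul] at h1 h2
      have e1 : ((A : Matrix (Fin 2) (Fin 2) F) 0 0 - 1) * v (Sum.inl i) +
          (A : Matrix (Fin 2) (Fin 2) F) 0 1 * v (Sum.inr i) = 0 := by linear_combination h1
      have e2 : (A : Matrix (Fin 2) (Fin 2) F) 1 0 * v (Sum.inl i) +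
          ((A : Matrix (Fin 2) (Fin 2) F) 1 1 - 1) * v (Sum.inr i) = 0 := by linear_combination h2
      rw [sub_one_eq]
      funext j
      fin_cases j
      · simpa only [Matrix.mulVec, dotProduct, Fin.sum_univ_two, _root_.Nat.succ_eq_add_one, _root_.Nat.reduceAdd, _root_.Fin.isValue, _root_.Fin.zero_eta, _root_.Matrix.of_apply, _root_.Matrix.cons_val', _root_.Matrix.cons_val_fin_one, _root_.Matrix.cons_val_zero, _root_.Matrix.cons_val_one, _root_.Pi.zero_apply] using e1
      · simpa only [Matrix.mulVec, dotProduct, Fin.sum_univ_two, _root_.Nat.succ_eq_add_one, _root_.Nat.reduceAdd, _root_.Fin.isValue, _root_.Fin.mk_one, _root_.Matrix.of_apply, _root_.Matrix.cons_val', _root_.Matrix.cons_val_fin_one, _root_.Matrix.cons_val_one, _root_.Matrix.cons_val_zero, _root_.Pi.zero_apply] using e2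
    funext k
    have h0 : ∀ i, ![v (Sum.inl i), v (Sum.inr i)] = 0 := fun i =>
      Matrix.eq_zero_of_mulVec_eq_zero hdet (key i)
    rcases k with i | i
    · exact congrFun (h0 i) 0
    · exact congrFun (h0 i) 1

end Cfsg.Agent.H262.El
end

-- part: H262/ElSymp
section
/-!
# TEAM ELUSIVE, symplectic row: the geometric classes
-/

set_option autoImplicit false

namespace Cfsg.Agent.H262.El

open Cfsg Cfsg.Geo Module
open Cfsg.Agent.ClassicalGeometry.SympBasic Cfsg.Agent.H876 Cfsg.Agent.H931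
open scoped Matrix MatrixGroups

variable {F : Type*} [Field F] {m : ℕ}

/-- some element of prime order of `Sp_2m(q)` has no conjugate in `H` -/
def Kill (m : ℕ) (F : Type*) [Field F] (H : Subgroup (GL (Fin m ⊕ Fin m) F)) : Prop :=
  ∃ x ∈ spGL m F, ∃ r : ℕ, r.Prime ∧ x ^ r = 1 ∧ ∀ g ∈ spGL m F, g * x * g⁻¹ ∉ H

theorem Kill.mono {H K : Subgroup (GL (Fin m ⊕ Fin m) F)} (h : Kill m F K) (hHK : H ≤ K) : Kill m F H := by
  obtain ⟨x, hx, r, hr, hxr, h⟩ := h
  exact ⟨x, hx, r, hr, hxr, fun g hg hm => h g hg (hHK hm)⟩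

theorem kill_of_prime [Finite F] {H : Subgroup (GL (Fin m ⊕ Fin m) F)} {r : ℕ} (hr : r.Prime)
    (hd : r ∣ Nat.card (spGL m F)) (h : ∀ y ∈ spGL m F, y ^ r = 1 → y ≠ 1 → y ∉ H) : Kill m F H := by
  have := Fact.mk hr
  obtain ⟨x, hx⟩ := exists_prime_orderOf_dvd_card' (G := spGL m F) r hd
  have hxr : (x : GL (Fin m ⊕ Fin m) F) ^ r = 1 := by
    have h1 : x ^ r = 1 := by rw [← hx, pow_orderOf_eq_one]
    have h2 := congrArg Subtype.val h1
    simpa only [_root_.SubmonoidClass.coe_pow, _root_.OneMemClass.coe_one] using h2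
  have hx1 : (x : GL (Fin m ⊕ Fin m) F) ≠ 1 := by
    intro h1
    have : x = 1 := Subtype.ext h1
    rw [this, orderOf_one] at hx
    exact hr.one_lt.ne hx
  refine ⟨x, x.2, r, hr, hxr, fun g hg => h _ ((spGL m F).mul_mem ((spGL m F).mul_mem hg x.2)
    ((spGL m F).inv_mem hg)) ?_ ?_⟩
  · rw [conj_pow, hxr, mul_one, mul_inv_cancel]
  · intro h1
    apply hx1
    have : g⁻¹ * (g * x * g⁻¹) * g = x := by group
    rw [← this, h1]
    group

theorem tGL_isTv {v : Fin m ⊕ Fin m → F} {c : F} (hv : v ≠ 0) (hc : c ≠ 0) : IsTv (tGL v c) := by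
  obtain ⟨u, w, hu, hw, h⟩ := tGL_isRankOne hv hc
  refine ⟨u, w, hu, hw, ?_, h⟩
  have hx : ∀ x, (w ⬝ᵥ x) • u = (c * sympForm m F x v) • v := by
    intro x
    have h1 := tGL_mulVec v x c
    rw [Cfsg.Agent.H918.IsRankOneElt.mulVec h] at h1
    exact add_left_cancel h1
  -- `u` is a multiple of `v`
  obtain ⟨x, hx0⟩ : ∃ x, sympForm m F x v ≠ 0 := by
    by_contra hcon
    push Not at hcon
    exact hv (eq_zero_of_forall_sympForm_left hcon)
  have h1 := hx x
  have h2 : w ⬝ᵥ x ≠ 0 := by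
    intro h0
    rw [h0, zero_smul] at h1
    exact smul_ne_zero (mul_ne_zero hc hx0) hv h1.symm
  have h3 : u = ((w ⬝ᵥ x)⁻¹ * (c * sympForm m F x v)) • v := by
    rw [mul_smul, ← h1, smul_smul, inv_mul_cancel₀ h2, one_smul]
  have h4 := hx u
  have h5 : sympForm m F u v = 0 := by
    rw [h3, sympForm_smul_left, sympForm_self, mul_zero]
  rw [h5, mul_zero, zero_smul] at h4
  exact (smul_eq_zero.1 h4).resolve_right hu

theorem kill_of_tv [Finite F] (hm : 1 ≤ m) {H : Subgroup (GL (Fin m ⊕ Fin m) F)}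
    (h : ∀ y ∈ spGL m F, IsTv y → y ∉ H) : Kill m F H := by
  obtain ⟨p, hp⟩ := CharP.exists F
  have hpp : p.Prime := CharP.char_is_prime F p
  have hv0 : (Pi.single (Sum.inl ⟨0, by omega⟩) 1 : Fin m ⊕ Fin m → F) ≠ 0 := by
    intro h0
    have := congrFun h0 (Sum.inl ⟨0, by omega⟩)
    simp at this
  have ht := tGL_isTv hv0 (one_ne_zero (α := F))
  refine ⟨_, tGL_mem _ _, p, hpp, ht.pow_char, fun g hg => h _ ((spGL m F).mul_mem ((spGL m F).mul_mem hg
    (tGL_mem _ _)) ((spGL m F).inv_mem hg)) (ht.conj g)⟩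

theorem kill_of_noFix [Fintype F] {H : Subgroup (GL (Fin m ⊕ Fin m) F)} {r : ℕ} (hr : r.Prime)
    (hrF : (r : F) ≠ 0) (hd : r ∣ Fintype.card F + 1)
    (h : ∀ y ∈ spGL m F, y ^ r = 1 → (∀ v, (y : Matrix (Fin m ⊕ Fin m) (Fin m ⊕ Fin m) F) *ᵥ v = v → v = 0) →
      y ∉ H) : Kill m F H := by
  obtain ⟨x, hx, hxr, hfix⟩ := exists_no_fix (m := m) hr hrF hd
  refine ⟨x, hx, r, hr, hxr, fun g hg => h _ ((spGL m F).mul_mem ((spGL m F).mul_mem hg hx)
    ((spGL m F).inv_mem hg)) ?_ ?_⟩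
  · rw [conj_pow, hxr, mul_one, mul_inv_cancel]
  · intro v hv
    have h1 : ((g⁻¹ : GL (Fin m ⊕ Fin m) F) : Matrix (Fin m ⊕ Fin m) (Fin m ⊕ Fin m) F) *ᵥ v = 0 := by
      apply hfix
      rw [Matrix.mulVec_mulVec, ← Units.val_mul]
      have h2 : x * g⁻¹ = g⁻¹ * (g * x * g⁻¹) := by group
      rw [h2, Units.val_mul, ← Matrix.mulVec_mulVec, hv]
    calc v = ((g : Matrix (Fin m ⊕ Fin m) (Fin m ⊕ Fin m) F) * ((g⁻¹ : GL (Fin m ⊕ Fin m) F) :
          Matrix (Fin m ⊕ Fin m) (Fin m ⊕ Fin m) F)) *ᵥ v := by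
          rw [← Units.val_mul, mul_inv_cancel, Units.val_one, Matrix.one_mulVec]
      _ = 0 := by rw [← Matrix.mulVec_mulVec, h1, Matrix.mulVec_zero]

/-- the fixed space of an element of order prime to the characteristic is nondegenerate -/
theorem even_fixS {x : GL (Fin m ⊕ Fin m) F} (hx : x ∈ spGL m F) {r : ℕ} (hr : (r : F) ≠ 0) (hxr : x ^ r = 1) :
    Even (finrank F (fixS x)) := by
  apply even_of_isNondegenerateOn (f := sympForm m F) Cfsg.Agent.H924.isSymplecticForm_sympForm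
  intro w hw hw0
  have hfk : ∀ k : ℕ, ∀ u, sympForm m F (((x ^ k : GL (Fin m ⊕ Fin m) F) : Matrix (Fin m ⊕ Fin m) (Fin m ⊕ Fin m) F) *ᵥ u) w =
      sympForm m F u w := by
    intro k
    induction k with
    | zero => intro u; simp
    | succ k ih =>
      intro u
      rw [pow_mulVec, ih]
      conv_lhs => rw [← mem_fixS.1 hw]
      exact mem_spGL_iff.1 hx u w
  obtain ⟨u, hu⟩ : ∃ u, sympForm m F u w ≠ 0 := by
    by_contra hcon
    push Not at hcon
    exact hw0 (eq_zero_of_forall_sympForm_left hcon)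
  set s : Fin m ⊕ Fin m → F := ∑ k ∈ Finset.range r, ((x ^ k : GL (Fin m ⊕ Fin m) F) : Matrix (Fin m ⊕ Fin m) (Fin m ⊕ Fin m) F) *ᵥ u with hs
  have hsx : s ∈ fixS x := by
    rw [mem_fixS, hs, Matrix.mulVec_sum]
    have h1 : ∀ k : ℕ, (x : Matrix (Fin m ⊕ Fin m) (Fin m ⊕ Fin m) F) *ᵥ (((x ^ k : GL (Fin m ⊕ Fin m) F) :
        Matrix (Fin m ⊕ Fin m) (Fin m ⊕ Fin m) F) *ᵥ u) =
        ((x ^ (k + 1) : GL (Fin m ⊕ Fin m) F) : Matrix (Fin m ⊕ Fin m) (Fin m ⊕ Fin m) F) *ᵥ u := by
      intro k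
      rw [Matrix.mulVec_mulVec, ← Units.val_mul, pow_succ']
    simp only [h1]
    have h2 := Finset.sum_range_succ' (fun k => ((x ^ k : GL (Fin m ⊕ Fin m) F) : Matrix (Fin m ⊕ Fin m) (Fin m ⊕ Fin m) F) *ᵥ u) r
    have h3 := Finset.sum_range_succ (fun k => ((x ^ k : GL (Fin m ⊕ Fin m) F) : Matrix (Fin m ⊕ Fin m) (Fin m ⊕ Fin m) F) *ᵥ u) r
    rw [h3] at h2
    simp only [hxr, pow_zero] at h2
    exact (add_right_cancel h2).symm
  have hsw : sympForm m F s w ≠ 0 := by
    have hsum : ∀ t : Finset ℕ, sympForm m F (∑ k ∈ t, ((x ^ k : GL (Fin m ⊕ Fin m) F) : Matrix (Fin m ⊕ Fin m) (Fin m ⊕ Fin m) F) *ᵥ u) w =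
        ∑ k ∈ t, sympForm m F (((x ^ k : GL (Fin m ⊕ Fin m) F) : Matrix (Fin m ⊕ Fin m) (Fin m ⊕ Fin m) F) *ᵥ u) w := by
      intro t
      induction t using Finset.induction_on with
      | empty => simp
      | insert a t ha ih => rw [Finset.sum_insert ha, Finset.sum_insert ha, sympForm_add_left, ih]
    rw [hs, hsum, Finset.sum_congr rfl fun k _ => hfk k u, Finset.sum_const, Finset.card_range, nsmul_eq_mul]
    exact mul_ne_zero hr hu
  refine ⟨⟨s, hsx, hsw⟩, ⟨s, hsx, ?_⟩⟩
  rw [sympForm_swap]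
  exact neg_ne_zero.2 hsw

/-- for `m` odd an element of order `r` has no fixed vectors if `q` has order `m` modulo `r` -/
theorem noFix_of_odd [Fintype F] {r : ℕ} (hodd : Odd m) (hr : Od (Fintype.card F) m r)
    {x : GL (Fin m ⊕ Fin m) F} (hx : x ∈ spGL m F) (hxr : x ^ r = 1) (hx1 : x ≠ 1) (hrF : (r : F) ≠ 0) :
    fixS x = ⊥ := by
  have h1 := finrank_fixS hr hxr
  have h2 := finrank_fixS_lt hx1
  have h3 := even_fixS hx hrF hxr
  rw [card_sum_fin] at h1 h2
  rw [← Submodule.finrank_eq_zero (R := F)]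
  obtain ⟨c, hc⟩ := h1
  obtain ⟨d, hd⟩ := h3
  obtain ⟨e, he⟩ := hodd
  by_contra h0
  have hc1 : c = 1 := by
    have hc0 : c ≠ 0 := by
      rintro rfl
      omega
    have : c < 2 := by
      by_contra hcon
      have h5 : m * 2 ≤ m * c := Nat.mul_le_mul_left m (by omega)
      omega
    omega
  subst hc1
  omega

theorem cast_ne_zero_of_od [Fintype F] {n r : ℕ} (h : Od (Fintype.card F) n r) : (r : F) ≠ 0 := by
  intro h0
  obtain ⟨p, hp⟩ := CharP.exists F
  have hpp : p.Prime := CharP.char_is_prime F p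
  have h1 : p ∣ r := (CharP.cast_eq_zero_iff F p r).1 h0
  have h2 : p = r := (Nat.prime_dvd_prime_iff_eq hpp h.prime).1 h1
  apply h.ndvd
  obtain ⟨n, -, hn⟩ := FiniteField.card F p
  rw [hn, ← h2]
  exact dvd_pow_self p n.pos.ne'

/-- **Orthogonal groups in characteristic two.** -/
theorem kill_quad [Fintype F] (hm : 2 ≤ m) (hF : ¬ Odd (Fintype.card F))
    {Q : (Fin m ⊕ Fin m → F) → F} (hQ : IsNondegenerateQuadraticForm Q)
    (hbig : (∃ r, Od (Fintype.card F) (2 * m) r) ∨ Odd m) : Kill m F (quadSimilarityGroup Q ⊓ spGL m F) := by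
  have hev : Even (Fintype.card F) := Nat.not_odd_iff_even.1 hF
  have hι : Fintype.card (Fin m ⊕ Fin m) = 2 * m := card_sum_fin
  -- a prime divisor of `q + 1`
  obtain ⟨s, hs, hsd⟩ := Nat.exists_prime_and_dvd (n := Fintype.card F + 1) (by
    have := Fintype.card_pos (α := F); omega)
  have hs2 : s ≠ 2 := by
    rintro rfl
    obtain ⟨a, ha⟩ := hev
    obtain ⟨b, hb⟩ := hsd
    omega
  have hchar : CharP F 2 := by
    obtain ⟨p, hp⟩ := CharP.exists F
    have hpp : p.Prime := CharP.char_is_prime F p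
    obtain ⟨n, -, hn⟩ := FiniteField.card F p
    rw [hn] at hev
    have h2 : 2 ∣ p := Nat.prime_two.dvd_of_dvd_pow (even_iff_two_dvd.1 hev)
    have h3 : 2 = p := (Nat.prime_dvd_prime_iff_eq Nat.prime_two hpp).1 h2
    rw [h3]
    exact hp
  have hsF : (s : F) ≠ 0 := by
    intro h0
    have h1 : 2 ∣ s := (CharP.cast_eq_zero_iff F 2 s).1 h0
    exact hs2 ((Nat.prime_dvd_prime_iff_eq Nat.prime_two hs).1 h1).symm
  have hs' := Fact.mk hs
  have hsq : (Fintype.card F : ZMod s) = -1 := by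
    have h1 : ((Fintype.card F + 1 : ℕ) : ZMod s) = 0 := (ZMod.natCast_eq_zero_iff _ _).2 hsd
    push_cast at h1
    linear_combination h1
  have h2s : (2 : ZMod s) ≠ 0 := by
    intro h0
    have h1 : ((2 : ℕ) : ZMod s) = 0 := by exact_mod_cast h0
    have h3 := (ZMod.natCast_eq_zero_iff 2 s).1 h1
    exact hs2 ((Nat.prime_dvd_prime_iff_eq hs Nat.prime_two).1 h3)
  have hplus : ∀ {Q₁ Q₂ : QuadraticForm F (Fin m ⊕ Fin m → F)}, ⇑Q₁ = Q → ⇑Q₂ = Q → Q₁ = Q₂ := by
    intro Q₁ Q₂ h1 h2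
    exact DFunLike.coe_injective (h1.trans h2.symm)
  obtain ⟨Q', hQ', hnd⟩ := Cfsg.Agent.H883.Bridge.exists_quadraticForm hQ
  have hdvd : ∀ {n r : ℕ}, Od (Fintype.card F) n r → n ∣ 2 * m → r ∣ Nat.card (spGL m F) := by
    intro n r hr hn
    rw [Cfsg.Agent.H955.card_spGL, Nat.card_eq_fintype_card]
    apply Dvd.dvd.mul_left
    refine dvd_trans ?_ (Finset.dvd_prod_of_mem _ (Finset.mem_range.2 (by omega : m - 1 < m)))
    rw [hr.dvd_iff Fintype.card_pos]
    rwa [show 2 * (m - 1 + 1) = 2 * m by omega]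
  by_cases hP : Cfsg.Agent.H955.IsPlus Q'
  · -- plus type
    by_cases hmo : Odd m
    · -- an element of order `s` dividing `q + 1`
      apply kill_of_noFix hs hsF hsd
      rintro y hy hyr hfix ⟨hyQ, -⟩
      rcases quad_dichotomy (m := m) (by omega) hι hs hQ hyQ hyr hfix with ⟨-, h1⟩ | ⟨⟨Q'', hQ'', hP'⟩, -⟩
      · rw [hsq, hmo.neg_one_pow, (Nat.Odd.sub_odd hmo odd_one).neg_one_pow] at h1
        have h3 : (2 : ZMod s) * 2 = 0 := by linear_combination -h1
        rcases mul_eq_zero.1 h3 with h4 | h4 <;> exact h2s h4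
      · exact hP' (hplus hQ'' hQ' ▸ hP)
    · obtain ⟨r, hr⟩ := hbig.resolve_right hmo
      have := Fact.mk hr.prime
      apply kill_of_prime hr.prime (hdvd hr dvd_rfl)
      rintro y hy hyr hy1 ⟨hyQ, -⟩
      have hfix : ∀ v, (y : Matrix (Fin m ⊕ Fin m) (Fin m ⊕ Fin m) F) *ᵥ v = v → v = 0 := by
        intro v hv
        have h1 : fixS y = ⊥ := by
          rcases irr_of_od (by rw [hι]; exact hr) hyr hy1 (fixS y) (fun v hv => by
            rw [mem_fixS.1 hv]; exact hv) with h | h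
          · exact h
          · exact absurd (fixS_eq_top h) hy1
        have h2 : v ∈ fixS y := mem_fixS.2 hv
        rwa [h1, Submodule.mem_bot] at h2
      rcases quad_dichotomy (m := m) (by omega) hι hr.prime hQ hyQ hyr hfix with ⟨-, h1⟩ | ⟨⟨Q'', hQ'', hP'⟩, -⟩
      · rcases mul_eq_zero.1 h1 with h2 | h2
        · have h3 : 2 * m ∣ m := by
            rw [← hr.ord]
            exact orderOf_dvd_of_pow_eq_one (sub_eq_zero.1 h2)
          have := Nat.le_of_dvd (by omega) h3
          omega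
        · have h3 : 2 * m ∣ 2 * (m - 1) := by
            rw [← hr.ord]
            apply orderOf_dvd_of_pow_eq_one
            have h4 : (Fintype.card F : ZMod r) ^ (m - 1) = -1 := by linear_combination h2
            rw [mul_comm, pow_mul, h4]
            ring
          have := Nat.le_of_dvd (by omega) h3
          omega
      · exact hP' (hplus hQ'' hQ' ▸ hP)
  · -- minus type
    by_cases hme : Even m
    · apply kill_of_noFix hs hsF hsd
      rintro y hy hyr hfix ⟨hyQ, -⟩
      rcases quad_dichotomy (m := m) (by omega) hι hs hQ hyQ hyr hfix with ⟨⟨Q'', hQ'', hP'⟩, -⟩ | ⟨-, h1⟩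
      · exact hP (hplus hQ' hQ'' ▸ hP')
      · have hmo : Odd (m - 1) := Nat.Even.sub_odd (by omega) hme odd_one
        rw [hsq, hme.neg_one_pow, hmo.neg_one_pow] at h1
        have h3 : (2 : ZMod s) * 2 = 0 := by linear_combination -h1
        rcases mul_eq_zero.1 h3 with h4 | h4 <;> exact h2s h4
    · have hmo : Odd m := Nat.not_even_iff_odd.1 hme
      have hm3 : 3 ≤ m := by
        rcases hmo with ⟨k, hk⟩
        omega
      obtain ⟨f, hf⟩ : ∃ f : ℕ, 1 ≤ f ∧ Fintype.card F = 2 ^ f := by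
        obtain ⟨n, -, hn⟩ := FiniteField.card F 2
        exact ⟨n, n.pos, hn⟩
      obtain ⟨r, hr⟩ : ∃ r, Od (Fintype.card F) m r := by
        by_cases h6 : f * m = 6
        · have hmf : m = 3 ∧ f = 2 := by
            have h1 : m ∣ 6 := Dvd.intro_left f h6
            have h2 : m ≤ 6 := Nat.le_of_dvd (by norm_num) h1
            rcases hmo with ⟨k, hk⟩
            interval_cases m <;> (clear * - h6 hk; omega)
          refine ⟨7, ?_⟩
          rw [hf.2, hmf.1, hmf.2]
          refine ⟨by norm_num, ?_, by norm_num⟩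
          have : Fact (Nat.Prime 3) := ⟨by norm_num⟩
          exact orderOf_eq_prime (by decide) (by decide)
        · obtain ⟨r, hr'⟩ := Cfsg.Agent.H163.PG.exists_ppd (p := 2) (f := f) (k := m) le_rfl
            (by nlinarith only [hm3, hf.1]) (fun h => h6 h.2)
          refine ⟨r, ?_⟩
          rw [hf.2]
          exact Od.of_ppd Nat.prime_two hf.1 (by omega) hr'
      · have := Fact.mk hr.prime
        apply kill_of_prime hr.prime (hdvd hr (Dvd.intro_left 2 rfl))
        rintro y hy hyr hy1 ⟨hyQ, -⟩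
        have h0 := noFix_of_odd hmo hr hy hyr hy1 (cast_ne_zero_of_od hr)
        have hfix : ∀ v, (y : Matrix (Fin m ⊕ Fin m) (Fin m ⊕ Fin m) F) *ᵥ v = v → v = 0 := by
          intro v hv
          have h2 : v ∈ fixS y := mem_fixS.2 hv
          rwa [h0, Submodule.mem_bot] at h2
        have hqm : (Fintype.card F : ZMod r) ^ m = 1 := by
          have := pow_orderOf_eq_one (Fintype.card F : ZMod r)
          rwa [hr.ord] at this
        rcases quad_dichotomy (m := m) (by omega) hι hr.prime hQ hyQ hyr hfix with ⟨⟨Q'', hQ'', hP'⟩, -⟩ | ⟨-, h1⟩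
        · exact hP (hplus hQ' hQ'' ▸ hP')
        · rw [hqm] at h1
          rcases mul_eq_zero.1 h1 with h3 | h3
          · have h4 : ((2 : ℕ) : ZMod r) = 0 := by push_cast; linear_combination h3
            have h5 := (ZMod.natCast_eq_zero_iff 2 r).1 h4
            have h6 := Nat.le_of_dvd two_pos h5
            have := hr.lt
            omega
          · have h4 : m ∣ m - 1 := by
              conv_lhs => rw [← hr.ord]
              exact orderOf_dvd_of_pow_eq_one (sub_eq_zero.1 h3)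
            have := Nat.le_of_dvd (by omega) h4
            omega

end Cfsg.Agent.H262.El
end

-- part: H262/ElSympGeo
section
/-!
# TEAM ELUSIVE, symplectic row: every member of a geometric class of `Sp_2m(q)` misses a class of
elements of prime order
-/

set_option autoImplicit false

namespace Cfsg.Agent.H262.El

open Cfsg Cfsg.Geo Module
open Cfsg.Agent.ClassicalGeometry.SympBasic Cfsg.Agent.H876 Cfsg.Agent.H931
open scoped Matrix MatrixGroups

variable {F : Type*} [Field F] {m : ℕ}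

theorem dvd_card_spGL [Fintype F] (hm : 1 ≤ m) {n r k : ℕ} (hr : Od (Fintype.card F) n r) (hn : n ∣ 2 * k)
    (hk1 : 1 ≤ k) (hkm : k ≤ m) : r ∣ Nat.card (spGL m F) := by
  rw [Cfsg.Agent.H955.card_spGL, Nat.card_eq_fintype_card]
  apply Dvd.dvd.mul_left
  refine dvd_trans ?_ (Finset.dvd_prod_of_mem _ (Finset.mem_range.2 (by omega : k - 1 < m)))
  rw [hr.dvd_iff Fintype.card_pos]
  rwa [show 2 * (k - 1 + 1) = 2 * k by omega]

theorem totallySingular_ne_top (hm : 1 ≤ m) {W : Submodule F (Fin m ⊕ Fin m → F)}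
    (hW : IsTotallySingularFor (sympForm m F) W) : W ≠ ⊤ := by
  rintro rfl
  have hv0 : (Pi.single (Sum.inl ⟨0, by omega⟩) 1 : Fin m ⊕ Fin m → F) ≠ 0 := by
    intro h0
    have := congrFun h0 (Sum.inl ⟨0, by omega⟩)
    simp at this
  exact hv0 (eq_zero_of_forall_sympForm_left fun u => hW _ Submodule.mem_top _ Submodule.mem_top)

/-- a nonzero form on `Fin n₁` of symplectic type has `n₁ ≥ 2` -/
theorem two_le_of_symp {n : ℕ} {f : (Fin n → F) → (Fin n → F) → F} (hf : IsSymplecticForm f) (hn : n ≠ 0) :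
    2 ≤ n := by
  have h := even_of_isSymplecticForm hf
  rw [Fintype.card_fin] at h
  obtain ⟨k, hk⟩ := h
  omega

/-- normalisers of extension fields -/
theorem kill_field [Finite F] (hm : 2 ≤ m) {r : ℕ} (hr : r.Prime)
    {K : Subalgebra F (Matrix (Fin m ⊕ Fin m) (Fin m ⊕ Fin m) F)} (hK : IsFieldSubalgebra r K) :
    Kill m F (subalgebraNormalizer K) :=
  kill_of_tv (by omega) fun y _ hy => rankOne_not_mem_subalgebraNormalizer
    (by rw [card_sum_fin]; omega) hy.isRankOneElt hr.two_le hK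

/-- tensor decompositions -/
theorem kill_tensor [Finite F] (hm : 1 ≤ m) {n₁ n₂ : ℕ} (h₁ : 2 ≤ n₁) (h₂ : 2 ≤ n₂)
    (e : Fin m ⊕ Fin m ≃ Fin n₁ × Fin n₂) (P : GL (Fin m ⊕ Fin m) F) :
    Kill m F (tensorProductSubgroup n₁ n₂ e P) :=
  kill_of_tv hm fun y _ hy => hy.isRankOneElt.not_mem_tensorProductSubgroup h₁ h₂ e P

/-- normalisers of symplectic type groups -/
theorem kill_symplecticType [Finite F] (hm : 2 ≤ m) {R : Subgroup (GL (Fin m ⊕ Fin m) F)}
    (hR : IsSymplecticTypeGroup 2 R) (habs : ActsAbsolutelyIrreducibly (matrixSet R)) :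
    Kill m F (subgroupNormalizer R) := by
  refine kill_of_tv (by omega) fun y _ hy => hy.not_mem_subgroupNormalizer
    (by rw [card_sum_fin]; omega) habs ?_
  intro a ha b hb
  have h1 := Cfsg.Agent.H921.commutator_mem_center hR (fun h => absurd h (by decide)) ⟨a, ha⟩ ⟨b, hb⟩
  obtain ⟨c, hc⟩ := Cfsg.Agent.H921.center_scalar habs _ h1
  refine ⟨c, ?_⟩
  have h2 : a * b = (a * b * a⁻¹ * b⁻¹) * (b * a) := by group
  have h3 := congrArg Units.val h2
  rw [Units.val_mul, Units.val_mul (a * b * a⁻¹ * b⁻¹), Units.val_mul b a] at h3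
  rw [h3]
  have h4 : ((a * b * a⁻¹ * b⁻¹ : GL (Fin m ⊕ Fin m) F) : Matrix (Fin m ⊕ Fin m) (Fin m ⊕ Fin m) F) =
      c • (1 : Matrix (Fin m ⊕ Fin m) (Fin m ⊕ Fin m) F) := hc
  rw [h4, Matrix.smul_mul, Matrix.one_mul]

/-- the classes killed by irreducible elements of prime order -/
theorem kill_of_irr [Fintype F] (hm : 2 ≤ m) {p f r : ℕ} (hp : p.Prime) (hf : 1 ≤ f) (hF : Fintype.card F = p ^ f)
    (hr : Cfsg.Agent.H163.PG.Ppd p (f * (2 * m)) r) :
    (∀ W : Submodule F (Fin m ⊕ Fin m → F), W ≠ ⊥ → W ≠ ⊤ → Kill m F (subspaceStabilizer W)) ∧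
    (∀ (t k : ℕ) (D : Fin t → Submodule F (Fin m ⊕ Fin m → F)), IsMDecomposition k D →
      Kill m F (decompositionStabilizer D)) ∧
    (∀ (F₀ : Subfield F) (s : ℕ) (P : GL (Fin m ⊕ Fin m) F), s.Prime → Fintype.card F = Nat.card F₀ ^ s →
      Kill m F (subfieldSubgroup F₀ P)) ∧
    (∀ (k t : ℕ) (e : (Fin m ⊕ Fin m) ≃ (Fin t → Fin k)) (P : GL (Fin m ⊕ Fin m) F), 2 ≤ k → 2 ≤ t →
      Kill m F (tensorWreathSubgroup k t e P)) := by
  have hod : Od (Fintype.card F) (2 * m) r := by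
    rw [hF]
    exact Od.of_ppd hp hf (by omega) hr
  have hι : Fintype.card (Fin m ⊕ Fin m) = 2 * m := card_sum_fin
  have hd := dvd_card_spGL (by omega) hod dvd_rfl (by omega) le_rfl
  have hirr : ∀ y : GL (Fin m ⊕ Fin m) F, y ^ r = 1 → y ≠ 1 → ∀ W : Submodule F (Fin m ⊕ Fin m → F),
      (∀ v ∈ W, (y : Matrix (Fin m ⊕ Fin m) (Fin m ⊕ Fin m) F) *ᵥ v ∈ W) → W = ⊥ ∨ W = ⊤ :=
    fun y h1 h2 => irr_of_od (by rw [hι]; exact hod) h1 h2
  refine ⟨fun W h0 h1 => ?_, fun t k D hD => ?_, fun F₀ s P hs hcard => ?_, fun k t e P hk ht => ?_⟩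
  · exact kill_of_prime hod.prime hd fun y hy hyr hy1 =>
      not_mem_subspaceStabilizer_of_irr (hirr y hyr hy1) h0 h1
  · refine kill_of_prime hod.prime hd fun y hy hyr hy1 hyD => ?_
    have htk : t * k = 2 * m := by rw [Cfsg.Agent.H918.decomp_card hD, hι]
    have ht : t ≤ 2 * m := by
      rw [← htk]
      exact Nat.le_mul_of_pos_right t hD.pos
    have h1 := fixes_of_decomposition hD hyD hod.prime (lt_of_le_of_lt ht hod.lt) hyr ⟨0, by
      have := hD.two_le; omega⟩
    rcases hirr y hyr hy1 _ h1 with h2 | h2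
    · exact Cfsg.Agent.H918.decomp_ne_bot hD _ h2
    · have h3 := hD.finrank_eq ⟨0, by have := hD.two_le; omega⟩
      rw [h2, finrank_top, Module.finrank_fintype_fun_eq_card, hι] at h3
      have h4 := hD.two_le
      have h5 := hD.pos
      have h6 : 2 * k ≤ t * k := Nat.mul_le_mul_right k h4
      omega
  · refine kill_of_prime hod.prime hd fun y hy hyr hy1 hyD => hy1 ?_
    -- `|F₀| = p ^ f₀`, `f = f₀ s`
    obtain ⟨f₀, hf₀1, hf₀, hfs⟩ : ∃ f₀ : ℕ, 1 ≤ f₀ ∧ Nat.card F₀ = p ^ f₀ ∧ f = f₀ * s := by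
      have h1 : Nat.card F₀ ∣ p ^ f := by
        rw [← hF, hcard]
        exact dvd_pow_self _ hs.ne_zero
      obtain ⟨f₀, -, hf₀⟩ := (Nat.dvd_prime_pow hp).1 h1
      refine ⟨f₀, ?_, hf₀, ?_⟩
      · rcases Nat.eq_zero_or_pos f₀ with h0 | h0
        · exfalso
          rw [h0, pow_zero] at hf₀
          rw [hf₀, one_pow] at hcard
          have := Fintype.one_lt_card (α := F)
          omega
        · exact h0
      · rw [hF, hf₀, ← pow_mul] at hcard
        exact Nat.pow_right_injective hp.two_le hcard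
    have hdvd : ∀ j, r ∣ p ^ j - 1 ↔ f * (2 * m) ∣ j := hr.dvd_iff hp.one_lt.le
    have hs2 := hs.two_le
    refine eq_one_of_mem_subfieldSubgroup hyD hod.prime hyr ?_ ?_ ?_
    · intro h
      rw [hf₀] at h
      have h1 := hod.prime.dvd_of_dvd_pow h
      apply hod.ndvd
      rw [hF]
      exact h1.trans (dvd_pow_self p (by omega))
    · rw [hF, hdvd]
      intro h
      have := Nat.le_of_dvd hf h
      nlinarith only [hm, hf, this]
    · intro j hj1 hj2
      rw [hf₀, ← pow_mul, hdvd]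
      intro h
      have h1 := Nat.le_of_dvd (Nat.mul_pos hf₀1 hj1) h
      rw [hι] at hj2
      have h2 : f₀ * j ≤ f₀ * (2 * m) := Nat.mul_le_mul_left _ hj2
      have h3 : f₀ < f := by
        rw [hfs]
        nlinarith only [hf₀1, hs2]
      have h4 : f₀ * (2 * m) < f * (2 * m) := Nat.mul_lt_mul_of_pos_right h3 (by omega)
      omega
  · refine kill_of_prime hod.prime hd fun y hy hyr hy1 hyD => hy1 ?_
    have hkt : k ^ t = 2 * m := by
      have h1 := Fintype.card_congr e
      rw [hι, Fintype.card_fun, Fintype.card_fin, Fintype.card_fin] at h1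
      exact h1.symm
    have htm : t < 2 * m := by
      rw [← hkt]
      exact lt_of_lt_of_le Nat.lt_two_pow_self (Nat.pow_le_pow_left hk t)
    have hkm : k < 2 * m := by
      rw [← hkt]
      calc k = k ^ 1 := (pow_one k).symm
        _ < k ^ t := Nat.pow_lt_pow_right (by omega) (by omega)
    refine eq_one_of_mem_tensorWreathSubgroup hyD hod.prime hyr (htm.trans hod.lt) hod.ndvd ?_
    intro j hj1 hj2
    rw [hod.dvd_iff Fintype.card_pos]
    intro h
    have := Nat.le_of_dvd hj1 h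
    omega

/-- **Members of the geometric classes of `Sp_2m(q)`, `(m, q) ≠ (3, 2)`.** -/
theorem kill_class [Fintype F] (hm : 2 ≤ m) (h32 : ¬ (m = 3 ∧ Fintype.card F = 2))
    {M : Subgroup (GL (Fin m ⊕ Fin m) F)} (hM : InSymplecticClass m F M) : Kill m F M := by
  obtain ⟨p, hp⟩ := CharP.exists F
  have hpp : p.Prime := CharP.char_is_prime F p
  obtain ⟨f, hf1, hF⟩ : ∃ f : ℕ, 1 ≤ f ∧ Fintype.card F = p ^ f := by
    obtain ⟨n, -, hn⟩ := FiniteField.card F p
    exact ⟨n, n.pos, hn⟩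
  have hι : Fintype.card (Fin m ⊕ Fin m) = 2 * m := card_sum_fin
  obtain ⟨r, hr⟩ := Cfsg.Agent.H163.PG.exists_ppd (p := p) (f := f) (k := 2 * m) hpp.two_le
    (by nlinarith only [hm, hf1]) (by
      rintro ⟨h2, h6⟩
      apply h32
      have h3 : f * m = 3 := by
        have : f * (2 * m) = 2 * (f * m) := by ring
        omega
      have h4 : m ∣ 3 := Dvd.intro_left f h3
      have h5 : m = 3 := by
        rcases (Nat.dvd_prime Nat.prime_three).1 h4 with h | h
        · omega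
        · exact h
      have h6 : f = 1 := by subst h5; omega
      exact ⟨h5, by rw [hF, h2, h6, pow_one]⟩)
  obtain ⟨k1, k2, k5, k7⟩ := kill_of_irr hm hpp hf1 hF hr
  have hod : Od (Fintype.card F) (2 * m) r := by
    rw [hF]
    exact Od.of_ppd hpp hf1 (by omega) hr
  rcases hM with hM | hM | hM | hM | hM
  · rcases hM with hM | hM | hM | hM | hM | hM | hM
    · obtain ⟨W, hW0, hW, rfl⟩ := hM
      exact (k1 W hW0 (totallySingular_ne_top (by omega) hW)).mono inf_le_left
    · obtain ⟨W, hW0, hW, hW2, rfl⟩ := hM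
      refine (k1 W hW0 ?_).mono inf_le_left
      rintro rfl
      rw [finrank_top, Module.finrank_fintype_fun_eq_card, hι] at hW2
      omega
    · obtain ⟨t, k, D, hD, rfl⟩ := hM
      exact (k2 t k D hD.decomp).mono inf_le_left
    · obtain ⟨D, -, hD, -, rfl⟩ := hM
      exact (k2 2 m D hD).mono inf_le_left
    · obtain ⟨F₀, s, P, ζ, hs, hcard, -, -, rfl⟩ := hM
      exact (k5 F₀ s P hs hcard).mono inf_le_left
    · obtain ⟨R, p', k, hR, habs, -, -, -, -, -, -, -, rfl⟩ := hM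
      exact (kill_symplecticType hm hR habs).mono inf_le_left
    · obtain ⟨Q, hodd, hQ, -, rfl⟩ := hM
      exact kill_quad hm hodd hQ (Or.inl ⟨r, hod⟩)
  · obtain ⟨s, K, hs, hK, -, -, rfl⟩ := hM
    exact (kill_field hm hs hK).mono inf_le_left
  · obtain ⟨K, -, hK, -, -, rfl⟩ := hM
    exact (kill_field hm Nat.prime_two hK).mono inf_le_left
  · obtain ⟨n₁, n₂, e, P, f₁, f₂, -, hn2, hf₁, -, -, rfl⟩ := hM
    refine (kill_tensor (by omega) (two_le_of_symp hf₁ ?_) (by omega) e P).mono inf_le_left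
    rintro rfl
    have h1 := Fintype.card_congr e
    rw [hι, Fintype.card_prod, Fintype.card_fin, zero_mul] at h1
    omega
  · obtain ⟨k, t, e, P, f₁, -, -, ht, -, hf₁, -, rfl⟩ := hM
    refine (k7 k t e P (two_le_of_symp hf₁ ?_) (by omega)).mono inf_le_left
    rintro rfl
    have h1 := Fintype.card_congr e
    rw [hι, Fintype.card_fun, Fintype.card_fin, Fintype.card_fin, zero_pow (by omega)] at h1
    omega

end Cfsg.Agent.H262.El
end

-- part: H262/ElSympSix
section
/-!
# TEAM ELUSIVE, symplectic row: `Sp_6(2)`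
-/

set_option autoImplicit false

namespace Cfsg.Agent.H262.El

open Cfsg Cfsg.Geo Module
open Cfsg.Agent.ClassicalGeometry.SympBasic Cfsg.Agent.H876 Cfsg.Agent.H931
open scoped Matrix MatrixGroups

variable {F : Type*} [Field F]

theorem od_two_three : Od 2 3 7 := by
  refine ⟨by norm_num, ?_, by norm_num⟩
  have : Fact (Nat.Prime 3) := ⟨by norm_num⟩
  exact orderOf_eq_prime (by decide) (by decide)

theorem od_two_four : Od 2 4 5 := by
  refine ⟨by norm_num, ?_, by norm_num⟩
  have h := orderOf_eq_prime_pow (x := ((2 : ℕ) : ZMod 5)) (p := 2) (n := 1) (by decide) (by decide)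
  rw [h]
  norm_num

/-- **Members of the geometric classes of `Sp_6(2)`.** -/
theorem kill_class_six [Fintype F] (hF : Fintype.card F = 2)
    {M : Subgroup (GL (Fin 3 ⊕ Fin 3) F)} (hM : InSymplecticClass 3 F M) : Kill 3 F M := by
  have hι : Fintype.card (Fin 3 ⊕ Fin 3) = 6 := card_sum_fin
  have h7 : Od (Fintype.card F) 3 7 := by rw [hF]; exact od_two_three
  have h5 : Od (Fintype.card F) 4 5 := by rw [hF]; exact od_two_four
  have hodd : ¬ Odd (Fintype.card F) := by rw [hF]; decide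
  have hd7 := dvd_card_spGL (F := F) (m := 3) (by omega) h7 (k := 3) (by norm_num) (by omega) le_rfl
  have hd5 := dvd_card_spGL (F := F) (m := 3) (by omega) h5 (k := 2) (by norm_num) (by omega) (by omega)
  have key7 : ∀ y ∈ spGL 3 F, y ^ 7 = 1 → y ≠ 1 → ∀ W : Submodule F (Fin 3 ⊕ Fin 3 → F),
      (∀ v ∈ W, (y : Matrix (Fin 3 ⊕ Fin 3) (Fin 3 ⊕ Fin 3) F) *ᵥ v ∈ W) → 3 ∣ finrank F W := by
    intro y hy hyr hy1 W hW
    have h0 := noFix_of_odd (m := 3) (by decide) h7 hy hyr hy1 (cast_ne_zero_of_od h7)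
    have h1 := finrank_inv h7 hyr W hW
    rwa [h0, inf_bot_eq, finrank_bot, Nat.sub_zero] at h1
  have k1 : ∀ W : Submodule F (Fin 3 ⊕ Fin 3 → F), W ≠ ⊥ → W ≠ ⊤ → Kill 3 F (subspaceStabilizer W) := by
    intro W hW0 hW1
    have hle := Submodule.finrank_le W
    rw [Module.finrank_fintype_fun_eq_card, hι] at hle
    by_cases h3 : 3 ∣ finrank F W
    · have hW3 : finrank F W = 3 := by
        have h4 : finrank F W ≠ 0 := fun h => hW0 (Submodule.finrank_eq_zero.1 h)
        have h5 : finrank F W ≠ 6 := fun h => hW1 (Submodule.eq_top_of_finrank_eq (by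
          rw [h, Module.finrank_fintype_fun_eq_card, hι]))
        omega
      refine kill_of_prime h5.prime hd5 fun y hy hyr hy1 hyW => ?_
      have h1 := finrank_fixS h5 hyr
      have h2 := finrank_fixS_lt hy1
      rw [hι] at h1 h2
      have h4 := finrank_inv h5 hyr W (fun v hv => (Cfsg.Agent.H918.mem_subspaceStabilizer.1 hyW v).1 hv)
      have h6 : finrank F (W ⊓ fixS y : Submodule F (Fin 3 ⊕ Fin 3 → F)) ≤ finrank F (fixS y) :=
        Submodule.finrank_mono inf_le_right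
      (clear * - hW3 h1 h2 h4 h6; omega)
    · exact kill_of_prime h7.prime hd7 fun y hy hyr hy1 hyW => h3 (key7 y hy hyr hy1 W
        (fun v hv => (Cfsg.Agent.H918.mem_subspaceStabilizer.1 hyW v).1 hv))
  rcases hM with hM | hM | hM | hM | hM
  · rcases hM with hM | hM | hM | hM | hM | hM | hM
    · obtain ⟨W, hW0, hW, rfl⟩ := hM
      exact (k1 W hW0 (totallySingular_ne_top (by omega) hW)).mono inf_le_left
    · obtain ⟨W, hW0, hW, hW2, rfl⟩ := hM
      refine (k1 W hW0 ?_).mono inf_le_left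
      rintro rfl
      rw [finrank_top, Module.finrank_fintype_fun_eq_card, hι] at hW2
      omega
    · obtain ⟨t, k, D, hD, rfl⟩ := hM
      refine Kill.mono ?_ inf_le_left
      refine kill_of_prime h7.prime hd7 fun y hy hyr hy1 hyD => ?_
      have h2 := hD.decomp.two_le
      have htk : t * k = 6 := by rw [Cfsg.Agent.H918.decomp_card hD.decomp, hι]
      have hk := hD.decomp.pos
      have ht : t ≤ 6 := by
        rw [← htk]
        exact Nat.le_mul_of_pos_right t hk
      have h1 := fixes_of_decomposition hD.decomp hyD h7.prime (by omega) hyr ⟨0, by omega⟩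
      have h3 := key7 y hy hyr hy1 _ h1
      rw [hD.decomp.finrank_eq] at h3
      have h4 := even_of_isNondegenerateOn Cfsg.Agent.H924.isSymplecticForm_sympForm
          (hD.nondegenerate ⟨0, by omega⟩)
      rw [hD.decomp.finrank_eq] at h4
      obtain ⟨l, rfl⟩ := h4
      obtain ⟨c, hc⟩ := h3
      have h6 : 6 ≤ l + l := by omega
      have : 2 * (l + l) ≤ t * (l + l) := Nat.mul_le_mul_right _ h2
      omega
    · obtain ⟨D, ho, -⟩ := hM
      exact absurd ho hodd
    · obtain ⟨F₀, s, P, ζ, hs, hcard, -⟩ := hM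
      exfalso
      rw [hF] at hcard
      have h1 : 1 < Nat.card F₀ := Finite.one_lt_card
      have h2 : 2 ^ 2 ≤ Nat.card F₀ ^ s := (Nat.pow_le_pow_left h1 2).trans
        (Nat.pow_le_pow_right (by omega) hs.two_le)
      omega
    · obtain ⟨R, p', k, -, -, -, hp, ho, hcard, -⟩ := hM
      rw [← hcard] at ho
      exact absurd ho hodd
    · obtain ⟨Q, ho, hQ, -, rfl⟩ := hM
      exact kill_quad (by omega) ho hQ (Or.inr (by decide))
  · obtain ⟨s, K, hs, hK, -, -, rfl⟩ := hM
    exact (kill_field (by omega) hs hK).mono inf_le_left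
  · obtain ⟨K, ho, -⟩ := hM
    exact absurd ho hodd
  · obtain ⟨n₁, n₂, e, P, f₁, f₂, ho, -⟩ := hM
    exact absurd ho hodd
  · obtain ⟨k, t, e, P, f₁, ho, -⟩ := hM
    exact absurd ho hodd

/-- **Members of the geometric classes of `Sp_2m(q)`, `m ≥ 2`.** -/
theorem kill_class' {m : ℕ} [Fintype F] (hm : 2 ≤ m)
    {M : Subgroup (GL (Fin m ⊕ Fin m) F)} (hM : InSymplecticClass m F M) : Kill m F M := by
  by_cases h32 : m = 3 ∧ Fintype.card F = 2
  · obtain ⟨rfl, hF⟩ := h32
    exact kill_class_six hF hM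
  · exact kill_class hm h32 hM

end Cfsg.Agent.H262.El
end

-- part: H262/ElSympPSp
section
/-!
# TEAM ELUSIVE, symplectic row: proper subgroups of `PSp_2m(q)`

`derT_or_residual` : a proper subgroup of `PSp_2m(q)` misses a class of elements of prime order, or
its preimage in `Sp_2m(q)` is in the residual class.
-/

set_option autoImplicit false

namespace Cfsg.Agent.H262.El

open Cfsg Cfsg.Geo Module Cfsg.Agent.H278.El
open Cfsg.Agent.ClassicalGeometry.SympBasic Cfsg.Agent.H876 Cfsg.Agent.H931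
open scoped Matrix MatrixGroups

variable {F : Type*} [Field F] {m : ℕ}

/-- the preimage in `Sp_2m(q) ≤ GL_2m(q)` of a subgroup of `PSp_2m(q)` -/
noncomputable def pre (R : Subgroup (PSp m F)) : Subgroup (GL (Fin m ⊕ Fin m) F) :=
  (R.comap (QuotientGroup.mk' (Subgroup.center (Matrix.symplecticGroup (Fin m) F)))).map (spToGL m F)

theorem spToGL_injective : Function.Injective (spToGL m F) := by
  intro A B h
  apply Subtype.ext
  have := congrArg (fun g : GL (Fin m ⊕ Fin m) F => (g : Matrix (Fin m ⊕ Fin m) (Fin m ⊕ Fin m) F)) h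
  exact this

theorem mem_pre {R : Subgroup (PSp m F)} {A : Matrix.symplecticGroup (Fin m) F} :
    spToGL m F A ∈ pre R ↔ (QuotientGroup.mk A : PSp m F) ∈ R := by
  constructor
  · rintro ⟨B, hB, hBA⟩
    rw [← spToGL_injective hBA]
    exact hB
  · intro h
    exact ⟨A, h, rfl⟩

theorem pre_le (R : Subgroup (PSp m F)) : pre R ≤ spGL m F := by
  rintro _ ⟨A, -, rfl⟩
  exact spToGL_mem A

theorem pre_mono {R S : Subgroup (PSp m F)} (h : R ≤ S) : pre R ≤ pre S :=
  Subgroup.map_mono (Subgroup.comap_mono h)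

theorem scalars_le_pre (R : Subgroup (PSp m F)) : scalars (Fin m ⊕ Fin m) F ⊓ spGL m F ≤ pre R := by
  rintro z ⟨hz, hz'⟩
  obtain ⟨A, rfl⟩ := exists_spToGL hz'
  rw [mem_pre]
  have hA : A ∈ Subgroup.center (Matrix.symplecticGroup (Fin m) F) := by
    rw [Subgroup.mem_center_iff]
    intro B
    apply spToGL_injective
    rw [map_mul, map_mul]
    exact (scalar_comm hz _).symm.eq
  have : (QuotientGroup.mk A : PSp m F) = 1 := (QuotientGroup.eq_one_iff A).2 hA
  rw [this]
  exact R.one_mem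

theorem pre_ne {R : Subgroup (PSp m F)} (hR : R ≠ ⊤) : pre R ≠ spGL m F := by
  intro h
  apply hR
  rw [eq_top_iff]
  intro x _
  obtain ⟨A, rfl⟩ := QuotientGroup.mk_surjective x
  rw [← mem_pre, h]
  exact spToGL_mem A

/-- from `Sp` to `PSp` -/
theorem derT_of_kill {R : Subgroup (PSp m F)} (h : Kill m F (pre R)) : DerT (PSp m F) R := by
  obtain ⟨x, hx, r, hr, hxr, hno⟩ := h
  obtain ⟨A, rfl⟩ := exists_spToGL hx
  have hA : A ^ r = 1 := by
    apply spToGL_injective
    rw [map_pow, map_one]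
    exact hxr
  refine ⟨(QuotientGroup.mk A : PSp m F), ?_, ?_⟩
  · have h1 : (QuotientGroup.mk A : PSp m F) ≠ 1 := by
      intro h1
      apply hno 1 (spGL m F).one_mem
      rw [one_mul, inv_one, mul_one, mem_pre, h1]
      exact R.one_mem
    have h2 : (QuotientGroup.mk A : PSp m F) ^ r = 1 := by
      rw [← QuotientGroup.mk_pow, hA]
      rfl
    rcases (Nat.dvd_prime hr).1 (orderOf_dvd_of_pow_eq_one h2) with h3 | h3
    · exact absurd (orderOf_eq_one_iff.1 h3) h1
    · rw [h3]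
      exact hr
  · intro g hg
    obtain ⟨B, rfl⟩ := QuotientGroup.mk_surjective g
    apply hno _ (spToGL_mem B)
    rw [← map_mul, ← map_inv, ← map_mul, mem_pre]
    exact hg

/-- **Proper subgroups of `PSp_2m(q)`**: a class of elements of prime order is missed, or the
residual class. -/
theorem derT_or_residual [Fintype F] (hm : 2 ≤ m) (hex : ¬ (m = 2 ∧ Fintype.card F = 2))
    {R : Subgroup (PSp m F)} (hR : R ≠ ⊤) :
    DerT (PSp m F) R ∨ InSymplecticResidualClass (pre R) := by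
  rcases Cfsg.Agent.S5662.result m hm hex (pre R) (pre_le R) (by
    rw [sup_eq_left.2 (scalars_le_pre R)]
    exact pre_ne hR) with ⟨M, hM, hle⟩ | h
  · exact Or.inl (derT_of_kill ((kill_class' hm hM).mono hle))
  · exact Or.inr h

end Cfsg.Agent.H262.El
end

private theorem dce_09b99f125dd6 : _root_.True := by
  try have : _root_.True := by simp only [_root_.Cfsg.Agent.H262.El.sl.eq_1]
  exact _root_.True.intro
end

-- part: H813/SaxSpK
section
set_option linter.all false
open scoped Cfsg.Agent.FastGrp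

/-!
# The order of the normalizer of a quadratic extension field in `Sp_4(q)`, `q` even (helper813, for S2498, S2528)
-/

set_option autoImplicit false
set_option linter.unusedSectionVars false

namespace Cfsg.Agent.H813.SaxSp

open Matrix Module Cfsg Cfsg.Geo Cfsg.Agent.H262.El Cfsg.Agent.H876 Cfsg.Agent.H931 Cfsg.Agent.ClassicalGeometry.SympBasic
open scoped MatrixGroups

variable {F : Type*} [Field F] [Fintype F]

local notation "I4" => (Fin 2 ⊕ Fin 2)

variable {K : Subalgebra F (Matrix I4 I4 F)}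

theorem card_K (hK : IsFieldSubalgebra 2 K) : Nat.card K = Fintype.card F ^ 2 := by
  rw [Module.natCard_eq_pow_finrank (K := F) (V := K), hK.finrank_eq, Nat.card_eq_fintype_card]

theorem card_V : Nat.card (I4 → F) = Fintype.card F ^ 4 := by
  rw [Module.natCard_eq_pow_finrank (K := F) (V := I4 → F), Module.finrank_fintype_fun_eq_card,
    Nat.card_eq_fintype_card]
  simp

theorem inj_one (hK : IsFieldSubalgebra 2 K) {v : I4 → F} (hv : v ≠ 0) :
    Function.Injective (fun k : K => (k : Matrix I4 I4 F) *ᵥ v) := by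
  intro a b hab
  have h1 : ((a - b : K) : Matrix I4 I4 F) *ᵥ v = 0 := by
    have h2 : (a : Matrix I4 I4 F) *ᵥ v = (b : Matrix I4 I4 F) *ᵥ v := hab
    show ((a : Matrix I4 I4 F) - (b : Matrix I4 I4 F)) *ᵥ v = 0
    rw [Matrix.sub_mulVec, h2, sub_self]
  by_contra hne
  obtain ⟨y, hy, hxy⟩ := hK.inv (a - b : K) (a - b : K).2 (fun h => hne (sub_eq_zero.1 (Subtype.ext h)))
  apply hv
  have h2 : (y * ((a - b : K) : Matrix I4 I4 F)) *ᵥ v = v := by
    rw [hK.comm y hy _ (a - b : K).2, hxy, Matrix.one_mulVec]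
  rw [← h2, ← Matrix.mulVec_mulVec, h1, Matrix.mulVec_zero]

theorem surj_two (hK : IsFieldSubalgebra 2 K) {v w : I4 → F} (hv : v ≠ 0)
    (hw : ∀ k ∈ K, k *ᵥ v ≠ w) (u : I4 → F) : ∃ k ∈ K, ∃ l ∈ K, u = k *ᵥ v + l *ᵥ w := by
  have hfin : Finite K := Module.finite_of_finite F
  let g : K × K → (I4 → F) := fun p => (p.1 : Matrix I4 I4 F) *ᵥ v + (p.2 : Matrix I4 I4 F) *ᵥ w
  have hinj : Function.Injective g := by
    rintro ⟨a, b⟩ ⟨a', b'⟩ h
    have h' : (a : Matrix I4 I4 F) *ᵥ v + (b : Matrix I4 I4 F) *ᵥ w =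
      (a' : Matrix I4 I4 F) *ᵥ v + (b' : Matrix I4 I4 F) *ᵥ w := h
    have hb : b = b' := by
      by_contra hne
      obtain ⟨y, hy, hxy⟩ := hK.inv (b' - b : K) (b' - b : K).2 (fun h => hne (sub_eq_zero.1 (Subtype.ext h)).symm)
      apply hw (y * ((a - a' : K) : Matrix I4 I4 F)) (K.mul_mem hy (a - a' : K).2)
      have h1 : ((a - a' : K) : Matrix I4 I4 F) *ᵥ v = ((b' - b : K) : Matrix I4 I4 F) *ᵥ w := by
        show ((a : Matrix I4 I4 F) - (a' : Matrix I4 I4 F)) *ᵥ v = ((b' : Matrix I4 I4 F) - (b : Matrix I4 I4 F)) *ᵥ w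
        rw [Matrix.sub_mulVec, Matrix.sub_mulVec, sub_eq_sub_iff_add_eq_add, h']
        abel
      rw [← Matrix.mulVec_mulVec, h1, Matrix.mulVec_mulVec, hK.comm y hy _ (b' - b : K).2, hxy, Matrix.one_mulVec]
    subst hb
    have ha : a = a' := inj_one hK hv (add_right_cancel h')
    rw [ha]
  have hbij : Function.Bijective g := by
    rw [Nat.bijective_iff_injective_and_card]
    refine ⟨hinj, ?_⟩
    rw [Nat.card_prod, card_K hK, card_V]
    ring
  obtain ⟨⟨k, l⟩, hkl⟩ := hbij.2 u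
  exact ⟨k, k.2, l, l.2, hkl.symm⟩

theorem exists_not (hK : IsFieldSubalgebra 2 K) (v : I4 → F) : ∃ w : I4 → F, ∀ k ∈ K, k *ᵥ v ≠ w := by
  by_contra h
  push Not at h
  have hfin : Finite K := Module.finite_of_finite F
  have hs : Function.Surjective (fun k : K => (k : Matrix I4 I4 F) *ᵥ v) := by
    intro w
    obtain ⟨k, hk, hkw⟩ := h w
    exact ⟨⟨k, hk⟩, hkw⟩
  have h1 := Nat.card_le_card_of_surjective _ hs
  rw [card_K hK, card_V] at h1
  have h2 : Fintype.card F ^ 2 < Fintype.card F ^ 4 := Nat.pow_lt_pow_right Fintype.one_lt_card (by norm_num)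
  omega

variable [CharP F 2]

theorem stab_diff (hK : IsFieldSubalgebra 2 K) (hsa : IsSelfAdjointFor (sympForm 2 F) K)
    (halt : ∀ k ∈ K, ∀ v : (I4 → F), (sympForm 2 F) (k *ᵥ v) v = 0) {c : GL I4 F} (hc : c ∈ spGL 2 F)
    (hcK : ∀ k ∈ K, (c : Matrix I4 I4 F) * k = k * c) {v : I4 → F} (hv : v ≠ 0) (hcv : (c : Matrix I4 I4 F) *ᵥ v = v)
    (u : I4 → F) : ∃ k ∈ K, (c : Matrix I4 I4 F) *ᵥ u + u = k *ᵥ v := by
  by_contra hno
  push Not at hno
  set d := (c : Matrix I4 I4 F) *ᵥ u + u with hd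
  have h2 : (2 : F) = 0 := CharTwo.two_eq_zero
  have hkd : ∀ k ∈ K, sympForm 2 F (k *ᵥ v) d = 0 := by
    intro k hk
    have h1 : (c : Matrix I4 I4 F) *ᵥ (k *ᵥ v) = k *ᵥ v := by
      rw [Matrix.mulVec_mulVec, hcK k hk, ← Matrix.mulVec_mulVec, hcv]
    have h3 : sympForm 2 F (k *ᵥ v) ((c : Matrix I4 I4 F) *ᵥ u) = sympForm 2 F (k *ᵥ v) u := by
      conv_lhs => rw [← h1]
      exact mem_spGL_iff.1 hc _ _
    rw [hd, sympForm_add_right, h3, ← two_mul, h2, zero_mul]
  apply hv
  apply eq_zero_of_forall_sympForm_left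
  intro x
  obtain ⟨k, hk, l, hl, rfl⟩ := surj_two hK hv (w := d) (fun k hk h => hno k hk h.symm) x
  rw [sympForm_swap, sympForm_add_right, ← hsa k hk, halt k hk, ← hsa l hl, hkd l hl, add_zero, neg_zero]

theorem stab_sq (hK : IsFieldSubalgebra 2 K) (hsa : IsSelfAdjointFor (sympForm 2 F) K)
    (halt : ∀ k ∈ K, ∀ v : (I4 → F), (sympForm 2 F) (k *ᵥ v) v = 0) {c : GL I4 F} (hc : c ∈ spGL 2 F)
    (hcK : ∀ k ∈ K, (c : Matrix I4 I4 F) * k = k * c) {v : I4 → F} (hv : v ≠ 0) (hcv : (c : Matrix I4 I4 F) *ᵥ v = v) :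
    c ^ 2 = 1 := by
  have h2 : (2 : F) = 0 := CharTwo.two_eq_zero
  have key : ∀ u : I4 → F, ((c ^ 2 : GL I4 F) : Matrix I4 I4 F) *ᵥ u = u := by
    intro u
    obtain ⟨k, hk, hku⟩ := stab_diff hK hsa halt hc hcK hv hcv u
    have h1 : (c : Matrix I4 I4 F) *ᵥ (k *ᵥ v) = k *ᵥ v := by
      rw [Matrix.mulVec_mulVec, hcK k hk, ← Matrix.mulVec_mulVec, hcv]
    rw [← hku, Matrix.mulVec_add, Matrix.mulVec_mulVec] at h1
    rw [sq, Units.val_mul]
    have h3 : (c : Matrix I4 I4 F) *ᵥ u + u + (c : Matrix I4 I4 F) *ᵥ u = u := by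
      have : (c : Matrix I4 I4 F) *ᵥ u + (c : Matrix I4 I4 F) *ᵥ u = 0 := by rw [← two_smul F, h2, zero_smul]
      calc (c : Matrix I4 I4 F) *ᵥ u + u + (c : Matrix I4 I4 F) *ᵥ u
          = ((c : Matrix I4 I4 F) *ᵥ u + (c : Matrix I4 I4 F) *ᵥ u) + u := by abel
        _ = u := by rw [this, zero_add]
    have h4 : (c : Matrix I4 I4 F) *ᵥ u + (c : Matrix I4 I4 F) *ᵥ u = 0 := by rw [← two_smul F, h2, zero_smul]
    calc ((c : Matrix I4 I4 F) * (c : Matrix I4 I4 F)) *ᵥ u =
          (((c : Matrix I4 I4 F) * (c : Matrix I4 I4 F)) *ᵥ u + (c : Matrix I4 I4 F) *ᵥ u) +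
          (c : Matrix I4 I4 F) *ᵥ u := by rw [add_assoc, h4, add_zero]
      _ = u := by rw [h1, h3]
  apply Units.ext
  apply Matrix.ext_of_mulVec_single
  intro i
  rw [key, Units.val_one, Matrix.one_mulVec]

theorem stab_card (hK : IsFieldSubalgebra 2 K) (hsa : IsSelfAdjointFor (sympForm 2 F) K)
    (halt : ∀ k ∈ K, ∀ v : (I4 → F), (sympForm 2 F) (k *ᵥ v) v = 0) {R : Subgroup (GL I4 F)} (hR : R ≤ spGL 2 F)
    (hRK : ∀ c ∈ R, ∀ k ∈ K, (c : Matrix I4 I4 F) * k = k * c) {v : I4 → F} (hv : v ≠ 0)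
    (hcv : ∀ c ∈ R, (c : Matrix I4 I4 F) *ᵥ v = v) : Nat.card R ≤ Fintype.card F ^ 2 := by
  have hfin : Finite K := Module.finite_of_finite F
  obtain ⟨w, hw⟩ := exists_not hK v
  rw [← card_K hK]
  have h1 : ∀ c : R, ∃ k : K, ((c : GL I4 F) : Matrix I4 I4 F) *ᵥ w + w = (k : Matrix I4 I4 F) *ᵥ v := by
    intro c
    obtain ⟨k, hk, h⟩ := stab_diff hK hsa halt (hR c.2) (hRK c c.2) hv (hcv c c.2) w
    exact ⟨⟨k, hk⟩, h⟩
  choose φ hφ using h1
  refine Nat.card_le_card_of_injective φ ?_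
  intro a b hab
  have h2 : ((a : GL I4 F) : Matrix I4 I4 F) *ᵥ w = ((b : GL I4 F) : Matrix I4 I4 F) *ᵥ w := by
    have h3 := hφ a
    rw [hab, ← hφ b] at h3
    exact add_right_cancel h3
  apply Subtype.ext
  apply Units.ext
  apply Matrix.ext_of_mulVec_single
  intro i
  obtain ⟨k, hk, l, hl, h4⟩ := surj_two hK hv hw (Pi.single i 1)
  rw [h4, Matrix.mulVec_add, Matrix.mulVec_add, Matrix.mulVec_mulVec, Matrix.mulVec_mulVec, Matrix.mulVec_mulVec,
    Matrix.mulVec_mulVec, hRK a a.2 k hk, hRK b b.2 k hk, hRK a a.2 l hl, hRK b b.2 l hl, ← Matrix.mulVec_mulVec,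
    ← Matrix.mulVec_mulVec, ← Matrix.mulVec_mulVec, ← Matrix.mulVec_mulVec, hcv a a.2, hcv b b.2, h2]

/-- the action on vectors -/
@[instance_reducible] def vact (R : Subgroup (GL I4 F)) : MulAction R (I4 → F) where
  smul g v := ((g : GL I4 F) : Matrix I4 I4 F) *ᵥ v
  one_smul v := by
    show ((1 : GL I4 F) : Matrix I4 I4 F) *ᵥ v = v
    rw [Units.val_one, Matrix.one_mulVec]
  mul_smul g h v := by
    show (((g : GL I4 F) * (h : GL I4 F) : GL I4 F) : Matrix I4 I4 F) *ᵥ v = _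
    rw [Units.val_mul, ← Matrix.mulVec_mulVec]
    rfl

/-- the action on non-zero vectors -/
@[instance_reducible] def vact' (R : Subgroup (GL I4 F)) : MulAction R {v : I4 → F // v ≠ 0} where
  smul g v := ⟨((g : GL I4 F) : Matrix I4 I4 F) *ᵥ v.1, fun h => v.2 (by
    have h1 : (((g : GL I4 F)⁻¹ : GL I4 F) : Matrix I4 I4 F) *ᵥ (((g : GL I4 F) : Matrix I4 I4 F) *ᵥ v.1) = v.1 := by
      rw [Matrix.mulVec_mulVec, ← Units.val_mul, inv_mul_cancel, Units.val_one, Matrix.one_mulVec]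
    rw [← h1, h, Matrix.mulVec_zero])⟩
  one_smul v := by
    apply Subtype.ext
    show ((1 : GL I4 F) : Matrix I4 I4 F) *ᵥ v.1 = v.1
    rw [Units.val_one, Matrix.one_mulVec]
  mul_smul g h v := by
    apply Subtype.ext
    show (((g : GL I4 F) * (h : GL I4 F) : GL I4 F) : Matrix I4 I4 F) *ᵥ v.1 = _
    rw [Units.val_mul, ← Matrix.mulVec_mulVec]
    rfl

theorem odd_card (hK : IsFieldSubalgebra 2 K) (hsa : IsSelfAdjointFor (sympForm 2 F) K)
    (halt : ∀ k ∈ K, ∀ v : (I4 → F), (sympForm 2 F) (k *ᵥ v) v = 0) {R : Subgroup (GL I4 F)} (hR : R ≤ spGL 2 F)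
    (hRK : ∀ c ∈ R, ∀ k ∈ K, (c : Matrix I4 I4 F) * k = k * c) {p : ℕ} (hp : p.Prime) (hp2 : p ≠ 2)
    (hRp : IsPGroup p R) : Nat.card R ∣ Fintype.card F ^ 4 - 1 := by
  classical
  have hpf := Fact.mk hp
  let _ := vact' R
  have hfree : ∀ v : {v : I4 → F // v ≠ 0}, MulAction.stabilizer R v = ⊥ := by
    intro v
    rw [eq_bot_iff]
    intro c hc
    rw [Subgroup.mem_bot]
    have h1 : ((c : GL I4 F) : Matrix I4 I4 F) *ᵥ v.1 = v.1 := congrArg Subtype.val hc
    have h2 := stab_sq hK hsa halt (hR c.2) (hRK c c.2) v.2 h1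
    have h3 : c ^ 2 = 1 := Subtype.ext h2
    obtain ⟨k, hk⟩ := IsPGroup.iff_orderOf.1 hRp c
    have h4 := orderOf_dvd_of_pow_eq_one h3
    rw [hk] at h4
    have h5 : Nat.Coprime (p ^ k) 2 := Nat.Coprime.pow_left k ((Nat.coprime_primes hp Nat.prime_two).2 hp2)
    have h6 : p ^ k = 1 := Nat.Coprime.eq_one_of_dvd h5 h4
    rw [h6] at hk
    exact orderOf_eq_one_iff.1 hk
  have e := MulAction.selfEquivOrbitsQuotientProd hfree
  have h1 := Nat.card_congr e
  rw [Nat.card_prod] at h1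
  have h2 : Nat.card {v : I4 → F // v ≠ 0} = Fintype.card F ^ 4 - 1 := by
    have h3 := Set.ncard_add_ncard_compl ({0} : Set (I4 → F))
    rw [Set.ncard_singleton, card_V] at h3
    have h4 : Nat.card {v : I4 → F // v ≠ 0} = ({0} : Set (I4 → F))ᶜ.ncard := rfl
    omega
  rw [← h2, h1]
  exact Dvd.intro_left _ rfl

theorem two_card (hK : IsFieldSubalgebra 2 K) (hsa : IsSelfAdjointFor (sympForm 2 F) K)
    (halt : ∀ k ∈ K, ∀ v : (I4 → F), (sympForm 2 F) (k *ᵥ v) v = 0) {R : Subgroup (GL I4 F)} (hR : R ≤ spGL 2 F)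
    (hRK : ∀ c ∈ R, ∀ k ∈ K, (c : Matrix I4 I4 F) * k = k * c)
    (hRp : IsPGroup 2 R) : Nat.card R ≤ Fintype.card F ^ 2 := by
  let _ := vact R
  have : Fact (Nat.Prime 2) := ⟨Nat.prime_two⟩
  have hmod := hRp.card_modEq_card_fixedPoints (I4 → F)
  obtain ⟨f, -, hf⟩ := FiniteField.card F 2
  have h1 : 2 ∣ Nat.card (I4 → F) := by
    rw [card_V, hf]
    exact dvd_pow (dvd_pow_self 2 f.pos.ne') (by norm_num)
  have h2 : 2 ∣ Nat.card (MulAction.fixedPoints R (I4 → F)) := (Nat.ModEq.dvd_iff hmod dvd_rfl).1 h1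
  have h0 : (0 : I4 → F) ∈ MulAction.fixedPoints R (I4 → F) := fun g => Matrix.mulVec_zero _
  have h3 : 1 < Nat.card (MulAction.fixedPoints R (I4 → F)) := by
    have : 0 < Nat.card (MulAction.fixedPoints R (I4 → F)) := by
      have : Nonempty (MulAction.fixedPoints R (I4 → F)) := ⟨⟨0, h0⟩⟩
      exact Nat.card_pos
    have := Nat.le_of_dvd this h2
    omega
  have h4 := Finite.one_lt_card_iff_nontrivial.1 h3
  obtain ⟨⟨v, hv⟩, hne⟩ := exists_ne (⟨0, h0⟩ : MulAction.fixedPoints R (I4 → F))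
  refine stab_card hK hsa halt hR hRK (v := v) ?_ (fun c hc => hv ⟨c, hc⟩)
  intro h
  exact hne (Subtype.ext h)

theorem cent_card (hK : IsFieldSubalgebra 2 K) (hsa : IsSelfAdjointFor (sympForm 2 F) K)
    (halt : ∀ k ∈ K, ∀ v : (I4 → F), (sympForm 2 F) (k *ᵥ v) v = 0) {C : Subgroup (GL I4 F)} (hC : C ≤ spGL 2 F)
    (hCK : ∀ c ∈ C, ∀ k ∈ K, (c : Matrix I4 I4 F) * k = k * c) :
    Nat.card C ∣ Fintype.card F ^ 2 * (Fintype.card F ^ 4 - 1) := by
  obtain ⟨f, -, hf⟩ := FiniteField.card F 2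
  rw [Nat.dvd_iff_prime_pow_dvd_dvd]
  intro p k hp hd
  have hpf := Fact.mk hp
  let P : Sylow p C := default
  have h1 : p ^ k ∣ Nat.card (P : Subgroup C) := P.pow_dvd_card_of_pow_dvd_card hd
  have h2 : Nat.card ((P : Subgroup C).map C.subtype) = Nat.card (P : Subgroup C) :=
    Subgroup.card_map_of_injective C.subtype_injective
  have h3 : (P : Subgroup C).map C.subtype ≤ C := Subgroup.map_subtype_le _
  by_cases hp2 : p = 2
  · subst hp2
    have h4 := two_card hK hsa halt (h3.trans hC) (fun c hc => hCK c (h3 hc)) (P.2.map C.subtype)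
    rw [h2] at h4
    obtain ⟨j, hj⟩ := P.2.exists_card_eq
    have hj' : Nat.card (P : Subgroup C) = 2 ^ j := hj
    rw [hj'] at h1 h4
    have h5 : 2 ^ j ∣ Fintype.card F ^ 2 := by
      rw [hf, ← pow_mul] at h4 ⊢
      exact pow_dvd_pow 2 ((Nat.pow_le_pow_iff_right (by norm_num)).1 h4)
    exact (h1.trans h5).trans (Dvd.intro _ rfl)
  · have h4 := odd_card hK hsa halt (h3.trans hC) (fun c hc => hCK c (h3 hc)) hp hp2 (P.2.map C.subtype)
    rw [h2] at h4
    exact (h1.trans h4).trans (Dvd.intro_left _ rfl)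

/-- **The order of the normalizer of a quadratic extension field of symplectic type.** -/
theorem card_field (hK : IsFieldSubalgebra 2 K) (hsa : IsSelfAdjointFor (sympForm 2 F) K)
    (halt : ∀ k ∈ K, ∀ v : (I4 → F), (sympForm 2 F) (k *ᵥ v) v = 0) :
    Nat.card (subalgebraNormalizer K ⊓ spGL 2 F : Subgroup (GL I4 F)) ∣
      2 * Fintype.card F ^ 2 * (Fintype.card F ^ 4 - 1) := by
  classical
  obtain ⟨N, hN⟩ : ∃ N : Subgroup (GL I4 F), N = subalgebraNormalizer K ⊓ spGL 2 F := ⟨_, rfl⟩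
  have hNA : H912.NormAlg N K := fun g hg a ha => (((hN ▸ hg : g ∈ subalgebraNormalizer K ⊓ spGL 2 F).1) a).mp ha
  let _ : Field K := (H912.isField_of_fieldSub hK).toField
  have hfd : Module.Finite F K := inferInstance
  have hKfin : Finite K := Module.finite_of_finite F
  have hgal : IsGalois F K := inferInstance
  let ρ : N →* (K ≃ₐ[F] K) :=
    { toFun := fun g => H912.conjSub hNA g
      map_one' := by
        apply AlgEquiv.ext
        intro x
        apply Subtype.ext
        rw [H912.conjSub_coe]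
        simp
      map_mul' := by
        intro g h
        apply AlgEquiv.ext
        intro x
        apply Subtype.ext
        rw [AlgEquiv.mul_apply, H912.conjSub_coe, H912.conjSub_coe, H912.conjSub_coe]
        simp only [Subgroup.coe_mul, _root_.mul_inv_rev, Units.val_mul, Matrix.mul_assoc] }
  have h1 : Nat.card (K ≃ₐ[F] K) = 2 := by
    rw [IsGalois.card_aut_eq_finrank]
    exact hK.finrank_eq
  have h2 : Nat.card ρ.range ∣ 2 := (Subgroup.card_subgroup_dvd_card ρ.range).trans (dvd_of_eq h1)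
  have h3 : Nat.card ρ.ker ∣ Fintype.card F ^ 2 * (Fintype.card F ^ 4 - 1) := by
    rw [← Subgroup.card_map_of_injective (K := ρ.ker) N.subtype_injective]
    refine cent_card hK hsa halt ?_ ?_
    · rintro _ ⟨g, -, rfl⟩
      exact (hN ▸ g.2 : (g : GL I4 F) ∈ subalgebraNormalizer K ⊓ spGL 2 F).2
    · rintro _ ⟨g, hg, rfl⟩ k hk
      have h4 : ρ g ⟨k, hk⟩ = ⟨k, hk⟩ := by rw [MonoidHom.mem_ker.1 hg]; rfl
      have h5 : ((g : GL I4 F) : Matrix I4 I4 F) * k * (((g : GL I4 F)⁻¹ : GL I4 F) : Matrix I4 I4 F) = k :=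
        congrArg Subtype.val h4
      show ((g : GL I4 F) : Matrix I4 I4 F) * k = k * ((g : GL I4 F) : Matrix I4 I4 F)
      conv_rhs => rw [← h5]
      rw [Matrix.mul_assoc _ (((g : GL I4 F)⁻¹ : GL I4 F) : Matrix I4 I4 F), ← Units.val_mul, inv_mul_cancel, Units.val_one,
        Matrix.mul_one]
  rw [← hN, ← Subgroup.card_mul_index ρ.ker, Subgroup.index_ker, mul_comm, mul_assoc]
  exact Nat.mul_dvd_mul h2 h3

end Cfsg.Agent.H813.SaxSp
end
end
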