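import Mathlib
import Cfsg.Agent.Solvable.FpfPGroup
import Cfsg.Agent.S0016
import Cfsg.Agent.Prune
set_option linter.all false
prune_inst 0x7f00000000000000000000000000000000000000000000000000000000000000000000000000000000000000000000000000000000000000000000000000000000000000000000000000000000000000003fffffffffffffffffffffffffffbeffbdffffffff
open scoped Cfsg.Agent.FastGrp

/-!
# Elements of order `s t` from a non-cyclic `s`-subgroup of a quotient (helper813, for S3397, S3446)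
-/

set_option autoImplicit false

namespace Cfsg.Agent.H813.NonCyc

open Subgroup

/-- A commuting pair. -/
theorem exists_of_commute {G : Type*} [Group G] [Finite G] {t s : ℕ} (hst : s.Coprime t) {a b : G}
    (ha : s ∣ orderOf a) (hb : t ∣ orderOf b) (hab : Commute a b) : ∃ x : G, orderOf x = s * t := by
  obtain ⟨i, hi⟩ := ha
  obtain ⟨j, hj⟩ := hb
  have hi0 : i ≠ 0 := by
    rintro rfl
    exact (orderOf_pos a).ne' (by rw [hi, mul_zero])
  have hj0 : j ≠ 0 := by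
    rintro rfl
    exact (orderOf_pos b).ne' (by rw [hj, mul_zero])
  have h1 : orderOf (a ^ i) = s := by
    rw [orderOf_pow_of_dvd hi0 ⟨s, by rw [hi, mul_comm]⟩, hi, Nat.mul_div_cancel _ (Nat.pos_of_ne_zero hi0)]
  have h2 : orderOf (b ^ j) = t := by
    rw [orderOf_pow_of_dvd hj0 ⟨t, by rw [hj, mul_comm]⟩, hj, Nat.mul_div_cancel _ (Nat.pos_of_ne_zero hj0)]
  refine ⟨a ^ i * b ^ j, ?_⟩
  rw [(hab.pow_pow i j).orderOf_mul_eq_mul_orderOf_of_coprime (by rwa [h1, h2]), h1, h2]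

/-- A non-cyclic `s`-group normalizing a non-trivial `t`-group. -/
theorem core {G : Type*} [Group G] [Finite G] {t s : ℕ} (ht : t.Prime) (hs : s.Prime) (hs2 : s ≠ 2) (hst : s ≠ t)
    {P Q : Subgroup G} (hP : IsPGroup t P) (hP1 : P ≠ ⊥) (hQ : IsPGroup s Q) (hQc : ¬ IsCyclic Q)
    (hQP : Q ≤ normalizer (P : Set G)) : ∃ x : G, orderOf x = s * t := by
  by_contra hno
  have hsf : Fact s.Prime := ⟨hs⟩
  have htf : Fact t.Prime := ⟨ht⟩
  have hfpf : ∀ a ∈ Q, a ≠ 1 → P ⊓ centralizer {a} = ⊥ := by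
    intro a ha ha1
    rw [eq_bot_iff]
    rintro y ⟨hyP, hya⟩
    rw [mem_bot]
    by_contra hy1
    apply hno
    refine exists_of_commute ((Nat.coprime_primes hs ht).2 hst) (a := a) (b := y) ?_ ?_ ?_
    · obtain ⟨k, hk⟩ := IsPGroup.iff_orderOf.1 hQ ⟨a, ha⟩
      rw [Subgroup.orderOf_mk] at hk
      rw [hk]
      have : k ≠ 0 := by
        rintro rfl
        rw [pow_zero, orderOf_eq_one_iff] at hk
        exact ha1 hk
      exact dvd_pow_self s this
    · obtain ⟨k, hk⟩ := IsPGroup.iff_orderOf.1 hP ⟨y, hyP⟩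
      rw [Subgroup.orderOf_mk] at hk
      rw [hk]
      have : k ≠ 0 := by
        rintro rfl
        rw [pow_zero, orderOf_eq_one_iff] at hk
        exact hy1 hk
      exact dvd_pow_self t this
    · exact (mem_centralizer_singleton_iff.1 hya).symm
  have huniq := Cfsg.Agent.Solvable.FpfPGroup.unique_subgroup_of_fpf Q P hP1 hQP hfpf hs hQ Q.subtype
    Q.subtype_injective (fun x => x.2)
  rcases Cfsg.Agent.S0016.result s hQ huniq with h | ⟨h, -⟩
  · exact hQc h
  · exact hs2 h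

/-- A Sylow `s`-subgroup of `N_G(P)`, `P` a Sylow `t`-subgroup of `N`, over a subgroup of `G ⧸ N`. -/
theorem exists_cover {G : Type*} [Group G] [Finite G] {N : Subgroup G} [N.Normal] {t s : ℕ} (ht : t.Prime)
    (hs : s.Prime) (htN : t ∣ Nat.card ↥N) (E : Subgroup (G ⧸ N)) :
    ∃ P Q : Subgroup G, IsPGroup t P ∧ P ≠ ⊥ ∧ IsPGroup s Q ∧ Q ≤ normalizer (P : Set G) ∧
      ∃ S : Sylow s E, IsCyclic Q → IsCyclic S := by
  have hsf : Fact s.Prime := ⟨hs⟩
  have htf : Fact t.Prime := ⟨ht⟩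
  obtain ⟨P⟩ : Nonempty (Sylow t N) := inferInstance
  obtain ⟨P', hP'⟩ : ∃ P' : Subgroup G, P' = (P : Subgroup N).map N.subtype := ⟨_, rfl⟩
  obtain ⟨H, hH⟩ : ∃ H : Subgroup G, H = normalizer (P' : Set G) := ⟨_, rfl⟩
  have hcov : H ⊔ N = ⊤ := by
    rw [hH, hP']
    exact Sylow.normalizer_sup_eq_top P
  let f0 : (H ⊓ E.comap (QuotientGroup.mk' N) : Subgroup G) →* E :=
    ((QuotientGroup.mk' N).comp (Subgroup.subtype _)).codRestrict E (fun x => x.2.2)
  have hf0 : Function.Surjective f0 := by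
    rintro ⟨e, he⟩
    obtain ⟨g, rfl⟩ := QuotientGroup.mk'_surjective N e
    have hg : g ∈ H ⊔ N := by rw [hcov]; exact mem_top g
    rw [sup_comm] at hg
    obtain ⟨n, hn, h, hh, rfl⟩ := (mem_sup_of_normal_left (s := N) (t := H)).1 hg
    have h1 : (QuotientGroup.mk' N) (n * h) = (QuotientGroup.mk' N) h := by
      rw [map_mul]
      have : (QuotientGroup.mk' N) n = 1 := (QuotientGroup.eq_one_iff n).2 hn
      rw [this, one_mul]
    refine ⟨⟨h, hh, ?_⟩, ?_⟩
    · show (QuotientGroup.mk' N) h ∈ E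
      rw [← h1]; exact he
    · apply Subtype.ext
      exact h1.symm
  obtain ⟨Q⟩ : Nonempty (Sylow s (H ⊓ E.comap (QuotientGroup.mk' N) : Subgroup G)) := inferInstance
  refine ⟨P', (Q : Subgroup (H ⊓ E.comap (QuotientGroup.mk' N) : Subgroup G)).map (Subgroup.subtype _), ?_, ?_, ?_,
    ?_, Q.mapSurjective hf0, ?_⟩
  · rw [hP']; exact P.2.map _
  · intro h
    rw [hP', map_eq_bot_iff_of_injective _ N.subtype_injective] at h
    have h1 : Nat.card (P : Subgroup N) = 1 := by rw [h, card_bot]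
    have h2 : t ∣ 1 := h1 ▸ P.dvd_card_of_dvd_card htN
    exact ht.one_lt.ne' (Nat.dvd_one.1 h2)
  · exact Q.2.map _
  · rintro _ ⟨x, -, rfl⟩
    rw [← hH]
    exact x.2.1
  · intro hc
    have e := (Q : Subgroup (H ⊓ E.comap (QuotientGroup.mk' N) : Subgroup G)).equivMapOfInjective
      (Subgroup.subtype _) (Subgroup.subtype_injective _)
    have hc1 : IsCyclic (Q : Subgroup (H ⊓ E.comap (QuotientGroup.mk' N) : Subgroup G)) :=
      isCyclic_of_surjective e.symm.toMonoidHom e.symm.surjective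
    exact isCyclic_of_surjective (f0.subgroupMap (Q : Subgroup _)) (f0.subgroupMap_surjective _)

/-- **General form.** -/
theorem adj_gen {G : Type*} [Group G] [Finite G] {N : Subgroup G} [N.Normal] {t s : ℕ} (ht : t.Prime) (hs : s.Prime)
    (hs2 : s ≠ 2) (hst : s ≠ t) (htN : t ∣ Nat.card ↥N) (E : Subgroup (G ⧸ N)) (hE : s ^ 2 ∣ Nat.card ↥E)
    (hno : ∀ x ∈ E, orderOf x ≠ s ^ 2) : ∃ x : G, orderOf x = s * t := by
  have hsf : Fact s.Prime := ⟨hs⟩
  obtain ⟨P, Q, hP, hP1, hQ, hQP, S, hS⟩ := exists_cover (G := G) (N := N) ht hs htN E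
  refine core ht hs hs2 hst hP hP1 hQ (fun hc => ?_) hQP
  have hSc := hS hc
  have h1 : s ^ 2 ∣ Nat.card S := S.pow_dvd_card_of_pow_dvd_card hE
  obtain ⟨x, hx⟩ := isCyclic_iff_exists_orderOf_eq_natCard.1 hSc
  rw [← hx] at h1
  obtain ⟨k, hk⟩ := h1
  have hk0 : k ≠ 0 := by
    rintro rfl
    exact (orderOf_pos x).ne' (by rw [hk, mul_zero])
  have h2 : orderOf (x ^ k) = s ^ 2 := by
    rw [orderOf_pow_of_dvd hk0 ⟨s ^ 2, by rw [hk, mul_comm]⟩, hk, Nat.mul_div_cancel _ (Nat.pos_of_ne_zero hk0)]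
  refine hno (((x ^ k : S) : E) : G ⧸ N) (x ^ k : S).1.2 ?_
  rw [Subgroup.orderOf_coe, Subgroup.orderOf_coe, h2]

theorem adj_of_noncyclic {G : Type*} [Group G] [Finite G] {N : Subgroup G} [N.Normal] {t s : ℕ} (ht : t.Prime)
    (hs : s.Prime) (hs2 : s ≠ 2) (hst : s ≠ t) (htN : t ∣ Nat.card ↥N) (E : Subgroup (G ⧸ N))
    (hE : Nat.card ↥E = s ^ 2) (hE' : ∀ x ∈ E, x ^ s = 1) : ∃ x : G, orderOf x = s * t := by
  refine adj_gen ht hs hs2 hst htN E (by rw [hE]) fun x hx h => ?_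
  have h1 := orderOf_dvd_of_pow_eq_one (hE' x hx)
  rw [h] at h1
  have h2 := Nat.le_of_dvd hs.pos h1
  have h3 := hs.two_le
  nlinarith

/-- An element of the group over an element of a quotient. -/
theorem exists_orderOf_of_quotient {G : Type*} [Group G] [Finite G] {K : Subgroup G} [K.Normal] {n : ℕ} {x : G ⧸ K}
    (hx : orderOf x = n) : ∃ g : G, orderOf g = n := by
  obtain ⟨g, rfl⟩ := QuotientGroup.mk'_surjective K x
  obtain ⟨k, hk⟩ := orderOf_map_dvd (QuotientGroup.mk' K) g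
  rw [hx] at hk
  have hk0 : k ≠ 0 := by
    rintro rfl
    exact (orderOf_pos g).ne' (by rw [hk, mul_zero])
  exact ⟨g ^ k, by
    rw [orderOf_pow_of_dvd hk0 ⟨n, by rw [hk, mul_comm]⟩, hk, Nat.mul_div_cancel _ (Nat.pos_of_ne_zero hk0)]⟩

/-- A section: `t` divides `|K|` or `|C_{G/K}(M)|`. -/
theorem adj_of_section {G : Type*} [Group G] [Finite G] {K : Subgroup G} [K.Normal] {M : Subgroup (G ⧸ K)}
    {t s : ℕ} (ht : t.Prime) (hs : s.Prime) (hs2 : s ≠ 2) (hst : s ≠ t)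
    (h : t ∣ Nat.card ↥K ∨ t ∣ Nat.card ↥(centralizer (M : Set (G ⧸ K)))) (hsM : s ^ 2 ∣ Nat.card ↥M)
    (hs1 : ¬ ∃ x : G, orderOf x = s ^ 2) : ∃ x : G, orderOf x = s * t := by
  rcases h with h | h
  · exact adj_gen ht hs hs2 hst h M hsM fun x _ hx => hs1 (exists_orderOf_of_quotient hx)
  · have hsf : Fact s.Prime := ⟨hs⟩
    have htf : Fact t.Prime := ⟨ht⟩
    obtain ⟨a, ha⟩ := exists_prime_orderOf_dvd_card' s ((dvd_pow_self s two_ne_zero).trans hsM)
    obtain ⟨b, hb⟩ := exists_prime_orderOf_dvd_card' t h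
    obtain ⟨x, hx⟩ := exists_of_commute ((Nat.coprime_primes hs ht).2 hst) (a := (a : G ⧸ K)) (b := (b : G ⧸ K))
      (by rw [Subgroup.orderOf_coe, ha]) (by rw [Subgroup.orderOf_coe, hb])
      (mem_centralizer_iff.1 b.2 a a.2)
    exact exists_orderOf_of_quotient hx

end Cfsg.Agent.H813.NonCyc
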